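import Mathlib

/-!
A group of prime degree and the normalizer of a subgroup of order `p`: the stabilizer of a point in
the normalizer embeds in the automorphism group of that subgroup and is semiregular on the rest.
-/

set_option autoImplicit false
set_option linter.style.haveILetI false
set_option linter.unusedSectionVars false

namespace Cfsg.Agent.Perm.PrimeTwins

open MulAction

variable {G Ω : Type*} [Group G] [Finite G] [MulAction G Ω] [FaithfulSMul G Ω] [Finite Ω] {p : ℕ}
  [Fact p.Prime] {P : Subgroup G}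

/-- A subgroup of order `p` is transitive on `p` points. -/
theorem transitive_of_card_prime (hΩ : Nat.card Ω = p) (hP : Nat.card P = p) :
    IsPretransitive P Ω := by
  have hp : p.Prime := Fact.out
  have hgrp : IsPGroup p P := IsPGroup.of_card (n := 1) (by rw [hP, pow_one])
  have hmod := hgrp.card_modEq_card_fixedPoints Ω
  rw [hΩ, Nat.ModEq, Nat.mod_self] at hmod
  obtain ⟨g, hg⟩ : ∃ g : P, g ≠ 1 := by
    haveI : Nontrivial P := Finite.one_lt_card_iff_nontrivial.1 (hP ▸ hp.one_lt)
    exact exists_ne 1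
  have hfix : fixedPoints P Ω = ∅ := by
    by_contra hne
    have hpos : 0 < Nat.card (fixedPoints P Ω) :=
      Nat.card_pos_iff.2 ⟨(Set.nonempty_iff_ne_empty.2 hne).to_subtype, inferInstance⟩
    have hle : Nat.card (fixedPoints P Ω) ≤ p := hΩ ▸ Finite.card_subtype_le _
    have heq : Nat.card (fixedPoints P Ω) = p :=
      le_antisymm hle (Nat.le_of_dvd hpos (Nat.dvd_of_mod_eq_zero hmod.symm))
    have huniv : fixedPoints P Ω = Set.univ := by
      refine Set.eq_of_subset_of_ncard_le (Set.subset_univ _) ?_ (Set.toFinite _)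
      rw [Set.ncard_univ, hΩ, ← Nat.card_coe_set_eq, heq]
    apply hg
    refine Subtype.ext (eq_of_smul_eq_smul fun z : Ω => ?_)
    have hz : z ∈ fixedPoints P Ω := huniv ▸ Set.mem_univ z
    rw [Subgroup.coe_one, one_smul]
    exact hz g
  refine ⟨fun a b => ?_⟩
  have hdvd : (orbit P a).ncard ∣ p := by
    rw [← index_stabilizer, ← hP]
    exact Subgroup.index_dvd_card _
  have hall : orbit P a = Set.univ := by
    rcases (Nat.dvd_prime hp).1 hdvd with h | h
    · exfalso
      obtain ⟨c, hc⟩ := Set.ncard_eq_one.1 h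
      have ha : a = c := by simpa [hc] using mem_orbit_self a (M := P)
      have : a ∈ fixedPoints P Ω := fun g => by
        have := hc.subset (mem_orbit a g)
        rwa [Set.mem_singleton_iff, ← ha] at this
      rw [hfix] at this
      exact this
    · refine Set.eq_of_subset_of_ncard_le (Set.subset_univ _) ?_ (Set.toFinite _)
      rw [Set.ncard_univ, hΩ, h]
  have hb : b ∈ orbit P a := by rw [hall]; trivial
  exact hb

/-- The action of the stabilizer of a point in the normalizer on the subgroup. -/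
def conjHom (P : Subgroup G) (b : Ω) :
    ↥(Subgroup.normalizer (P : Set G) ⊓ stabilizer G b) →* MulAut P :=
  (P.normalizerMonoidHom).comp (Subgroup.inclusion inf_le_left)

theorem eq_one_of_commute (htr : IsPretransitive P Ω) {g : G} {b : Ω} (hb : g • b = b)
    (hc : ∀ x ∈ P, g * x * g⁻¹ = x) : g = 1 := by
  refine eq_of_smul_eq_smul fun z : Ω => ?_
  obtain ⟨⟨x, hx⟩, rfl⟩ := htr.exists_smul_eq b z
  show g • x • b = (1 : G) • x • b
  rw [one_smul, ← mul_smul, mul_inv_eq_iff_eq_mul.1 (hc x hx), mul_smul, hb]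

theorem conjHom_injective (hΩ : Nat.card Ω = p) (hP : Nat.card P = p) (b : Ω) :
    Function.Injective (conjHom P b) := by
  rw [injective_iff_map_eq_one]
  intro g hg
  refine Subtype.ext (eq_one_of_commute (transitive_of_card_prime hΩ hP) g.2.2 fun x hx => ?_)
  exact congrArg Subtype.val (DFunLike.congr_fun hg ⟨x, hx⟩ : conjHom P b g ⟨x, hx⟩ = ⟨x, hx⟩)

theorem cyclic_mulAut (hP : Nat.card P = p) :
    IsCyclic (MulAut P) ∧ Nat.card (MulAut P) = p - 1 := by
  have hp : p.Prime := Fact.out
  haveI : IsCyclic P := isCyclic_of_prime_card hP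
  refine ⟨?_, by rw [IsCyclic.card_mulAut, hP, Nat.totient_prime hp]⟩
  haveI : Fact (Nat.card P).Prime := ⟨hP.symm ▸ hp⟩
  exact isCyclic_of_injective (IsCyclic.mulAutMulEquiv P).toMonoidHom
    (IsCyclic.mulAutMulEquiv P).injective

/-- An element of the normalizer fixing two points is trivial. -/
theorem eq_one_of_fix (hΩ : Nat.card Ω = p) (hP : Nat.card P = p) {g : G}
    (hg : g ∈ Subgroup.normalizer (P : Set G)) {b c : Ω} (hb : g • b = b) (hc : g • c = c)
    (hbc : b ≠ c) : g = 1 := by
  have hp : p.Prime := Fact.out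
  have htr := transitive_of_card_prime hΩ hP
  have hbij : Function.Bijective fun x : P => x • b := by
    refine (Nat.bijective_iff_surjective_and_card _).2 ⟨fun z => htr.exists_smul_eq b z, ?_⟩
    rw [hP, hΩ]
  obtain ⟨⟨x, hx⟩, hxc : x • b = c⟩ := hbij.2 c
  have hx1 : x ≠ 1 := fun h => hbc (by rw [← hxc, h, one_smul])
  have hgx : g * x * g⁻¹ = x := by
    have hmem := (Subgroup.mem_normalizer_iff.1 hg x).1 hx
    refine congrArg Subtype.val (hbij.1 (a₁ := ⟨_, hmem⟩) (a₂ := ⟨x, hx⟩) ?_)
    show (g * x * g⁻¹) • b = x • b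
    rw [mul_smul, mul_smul, inv_smul_eq_iff.2 hb.symm, hxc, hc]
  refine eq_one_of_commute htr hb fun y hy => ?_
  have hgen : (⟨y, hy⟩ : P) ∈ Subgroup.zpowers (⟨x, hx⟩ : P) := by
    haveI : Fact (Nat.card P).Prime := ⟨hP.symm ▸ hp⟩
    exact mem_zpowers_of_prime_card hP (fun h => hx1 (congrArg Subtype.val h))
  obtain ⟨i, hi⟩ := hgen
  have hi' : x ^ i = y := congrArg Subtype.val hi
  rw [← hi', ← MulAut.conj_apply, map_zpow, MulAut.conj_apply, hgx]

/-- The order of the normalizer. -/
theorem card_normalizer (hΩ : Nat.card Ω = p) (hP : Nat.card P = p) (b : Ω) :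
    Nat.card (Subgroup.normalizer (P : Set G)) =
      p * Nat.card ↥(Subgroup.normalizer (P : Set G) ⊓ stabilizer G b) := by
  set N := Subgroup.normalizer (P : Set G) with hN
  haveI : IsPretransitive N Ω := ⟨fun a c => by
    obtain ⟨⟨x, hx⟩, hxa⟩ := (transitive_of_card_prime hΩ hP).exists_smul_eq a c
    exact ⟨⟨x, Subgroup.le_normalizer hx⟩, hxa⟩⟩
  have h := (stabilizer N b).card_mul_index
  rw [index_stabilizer_of_transitive, hΩ] at h
  rw [← h, mul_comm]
  congr 1
  exact Nat.card_congr
    { toFun := fun g => ⟨g.1.1, g.1.2, g.2⟩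
      invFun := fun g => ⟨⟨g.1, g.2.1⟩, g.2.2⟩
      left_inv := fun g => rfl
      right_inv := fun g => rfl }

end Cfsg.Agent.Perm.PrimeTwins
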