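import Cfsg.Agent.Lib.Perm.PrimeTwins.TwoOrbit
import Cfsg.Agent.S0676
import Cfsg.Agent.S0698
import Cfsg.Agent.S0547

/-!
Groups of prime degree `p = q + 2` (`q` prime) with a half Sylow normalizer are five-fold transitive:
the setwise stabilizer of two points acts on the other `q` points as a group with a Sylow
normalizer of even order, so is triply transitive there, and so is its subgroup of index two.
-/

set_option autoImplicit false
set_option linter.style.haveILetI false

namespace Cfsg.Agent.Perm.PrimeTwins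

open MulAction

variable {α : Type*} [Fintype α] [DecidableEq α] {G : Subgroup (Equiv.Perm α)} {p : ℕ} [Fact p.Prime]

/-- A half Sylow normalizer: the group is not the whole symmetric group. -/
theorem ne_top (hα : Nat.card α = p) (hp : 2 < p) [IsPretransitive G α] (P : Sylow p G)
    (hN : 2 * Nat.card (Subgroup.normalizer ((P : Subgroup G) : Set G)) = p * (p - 1)) : G ≠ ⊤ := by
  intro htop
  obtain ⟨e, t, hto, ht⟩ := Cfsg.Agent.Perm.PrimeDegree.exists_coord (p := p) hα G
  obtain ⟨Q, hQ⟩ := Cfsg.Agent.Perm.EvenNormalizer.sylow_eq_zpowers hα G hto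
  have htn : ∀ (n : ℕ) k, (t ^ n) • e k = e (k + n) := by
    intro n
    induction n with
    | zero => simp
    | succ n ih =>
      intro k
      rw [pow_succ', mul_smul, ih, ht, Nat.cast_succ, add_assoc]
  let σ : (ZMod p)ˣ × ZMod p → G := fun ub =>
    ⟨e.symm.trans (((MulAction.toPerm ub.1).trans (Equiv.addRight ub.2)).trans e),
      by rw [htop]; trivial⟩
  have hσ : ∀ ub k, σ ub • e k = e ((ub.1 : ZMod p) * k + ub.2) := fun ub k => by
    show (e.symm.trans (((MulAction.toPerm ub.1).trans (Equiv.addRight ub.2)).trans e)) (e k) = _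
    simp [Units.smul_def]
  have hmem : ∀ ub, σ ub ∈ Subgroup.normalizer ((Q : Subgroup G) : Set G) := by
    intro ub
    have hc : σ ub * t * (σ ub)⁻¹ = t ^ (ub.1 : ZMod p).val := by
      rw [mul_inv_eq_iff_eq_mul]
      refine Subtype.ext (Equiv.ext fun z => ?_)
      obtain ⟨k, rfl⟩ := e.surjective z
      show (σ ub * t) • e k = (t ^ (ub.1 : ZMod p).val * σ ub) • e k
      rw [mul_smul, mul_smul, ht, hσ, hσ, htn, ZMod.natCast_zmod_val]
      congr 1
      ring
    have hmap : (Subgroup.zpowers t).map (MulAut.conj (σ ub)).toMonoidHom = Subgroup.zpowers t := by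
      refine Subgroup.eq_of_le_of_card_ge ?_ ?_
      · rw [MonoidHom.map_zpowers, Subgroup.zpowers_le]
        show σ ub * t * (σ ub)⁻¹ ∈ _
        rw [hc]
        exact Subgroup.npow_mem_zpowers t _
      · rw [Subgroup.card_map_of_injective (MulAut.conj (σ ub)).injective]
    rw [hQ, Subgroup.mem_normalizer_iff]
    intro x
    refine ⟨fun hx => hmap ▸ Subgroup.mem_map_of_mem _ hx, fun hx => ?_⟩
    have hx' : σ ub * x * (σ ub)⁻¹ ∈ (Subgroup.zpowers t).map (MulAut.conj (σ ub)).toMonoidHom :=
      hmap.symm ▸ hx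
    obtain ⟨y, hy, hyx⟩ := Subgroup.mem_map.1 hx'
    have : y = x := (MulAut.conj (σ ub)).injective hyx
    rwa [← this]
  have hinj : Function.Injective fun ub =>
      (⟨σ ub, hmem ub⟩ : Subgroup.normalizer ((Q : Subgroup G) : Set G)) := by
    intro x y hxy
    have h := congrArg Subtype.val hxy
    simp only at h
    have h0 := hσ x 0
    have h1 := hσ x 1
    rw [h, hσ y] at h0 h1
    have h0 := e.injective h0
    have h1 := e.injective h1
    simp only [mul_zero, zero_add, mul_one] at h0 h1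
    exact Prod.ext (Units.ext (by rw [h0] at h1; exact (add_right_cancel h1).symm)) h0.symm
  have hle := Nat.card_le_card_of_injective _ hinj
  rw [Nat.card_prod, Nat.card_units, Nat.card_zmod] at hle
  have h1 := (Subgroup.normalizer ((P : Subgroup G) : Set G)).card_mul_index
  have h2 := (Subgroup.normalizer ((Q : Subgroup G) : Set G)).card_mul_index
  have e1 : Nat.card (Sylow p G) = (Subgroup.normalizer ((P : Subgroup G) : Set G)).index :=
    P.card_eq_index_normalizer
  have e2 : Nat.card (Sylow p G) = (Subgroup.normalizer ((Q : Subgroup G) : Set G)).index :=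
    Q.card_eq_index_normalizer
  rw [← e1] at h1
  rw [← e2, ← h1] at h2
  rw [Nat.eq_of_mul_eq_mul_right Nat.card_pos h2] at hle
  rw [mul_comm p] at hN
  have : 0 < (p - 1) * p := Nat.mul_pos (by omega) (by omega)
  omega

/-- An element of odd order lies in every subgroup of index two. -/
theorem mem_of_odd {B : Type*} [Group B] {A : Subgroup B} (h2 : A.index = 2) {x : B} {m : ℕ}
    (hm : Odd m) (hx : x ^ m = 1) : x ∈ A := by
  obtain ⟨k, rfl⟩ := hm
  rw [pow_succ, pow_mul] at hx
  have h := A.pow_mem (Subgroup.sq_mem_of_index_two h2 x) k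
  rw [eq_inv_of_mul_eq_one_left hx] at h
  exact inv_mem_iff.1 h

theorem even_normalizer {B : Type*} [Group B] [Finite B] {q : ℕ} [Fact q.Prime] (hq : q ≠ 2)
    {A : Subgroup B} (h2 : A.index = 2) (Q : Sylow q B) :
    Even (Nat.card (Subgroup.normalizer ((Q : Subgroup B) : Set B))) := by
  haveI := Subgroup.normal_of_index_eq_two h2
  have hQA : (Q : Subgroup B) ≤ A := by
    intro x hx
    obtain ⟨k, hk⟩ := Q.isPGroup' ⟨x, hx⟩
    exact mem_of_odd h2 (((Fact.out : q.Prime).odd_of_ne_two hq).pow (n := k))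
      (congrArg Subtype.val hk)
  by_contra hodd
  rw [Nat.not_even_iff_odd] at hodd
  have hle : Subgroup.normalizer ((Q : Subgroup B) : Set B) ≤ A := fun x hx =>
    mem_of_odd h2 hodd (congrArg Subtype.val (pow_card_eq_one' (x := (⟨x, hx⟩ :
      Subgroup.normalizer ((Q : Subgroup B) : Set B)))))
  have : Subgroup.normalizer ((Q : Subgroup B) : Set B) ⊔ A = ⊤ := Sylow.normalizer_sup_eq_top' Q hQA
  rw [sup_eq_right.2 hle] at this
  rw [this, Subgroup.index_top] at h2
  omega

/-- A subgroup of index two of a triply transitive group of odd prime degree is triply transitive. -/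
theorem three_of_index_two {β : Type*} [Fintype β] [DecidableEq β] {q : ℕ} (hβ : Fintype.card β = q)
    (hq : q.Prime) (hq3 : 3 < q) (B : Subgroup (Equiv.Perm β)) (hB : IsMultiplyPretransitive B β 3)
    (A : Subgroup B) (hA : A.index = 2) (hAt : IsPretransitive A β) :
    IsMultiplyPretransitive A β 3 := by
  classical
  haveI := Fact.mk hq
  haveI hAn : A.Normal := Subgroup.normal_of_index_eq_two hA
  obtain ⟨z₀⟩ : Nonempty β := Fintype.card_pos_iff.1 (by omega)
  have hAne : A ≠ ⊥ := by
    rintro rfl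
    obtain ⟨z₁, hz₁⟩ := Fintype.exists_ne_of_one_lt_card (by omega : 1 < Fintype.card β) z₀
    obtain ⟨⟨g, hg⟩, hgz⟩ := hAt.exists_smul_eq z₀ z₁
    rw [Subgroup.mem_bot] at hg
    subst hg
    exact hz₁ (by rw [← hgz]; rfl)
  have hA2 : IsMultiplyPretransitive A β 2 := by
    rcases Cfsg.Agent.S0698.result B (k := 3) (by norm_num) (by omega) hB A hAne with h | ⟨-, -, h⟩
    · exact h
    · exfalso
      have hdvd : q ∣ Nat.card A := by
        have := (stabilizer A z₀).index_dvd_card
        rwa [MulAction.index_stabilizer_of_transitive, Nat.card_eq_fintype_card, hβ] at this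
      obtain ⟨x, hx⟩ := exists_prime_orderOf_dvd_card' (G := A) q hdvd
      have h1 : (x : B) ^ 2 = 1 := h _ x.2
      have h2 := Nat.le_of_dvd two_pos (orderOf_dvd_of_pow_eq_one h1)
      rw [Subgroup.orderOf_coe, hx] at h2
      omega
  refine Cfsg.Agent.Perm.Basic.isMultiplyPretransitive_of_fixing_pred (by omega) ?_
  intro t ht x y hx hy
  obtain ⟨u, v, huv, rfl⟩ := Finset.card_eq_two.1 (by omega : t.card = 2)
  simp only [Finset.mem_insert, Finset.mem_singleton, not_or] at hx hy
  by_contra hcon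
  have hno : ∀ g : B, g ∈ A → g • u = u → g • v = v → g • x ≠ y := fun g hg gu gv gx =>
    hcon ⟨⟨g, hg⟩, fun w hw => by
      simp only [Finset.mem_insert, Finset.mem_singleton] at hw
      rcases hw with rfl | rfl
      · exact gu
      · exact gv, gx⟩
  -- the stabilizer in `B` of the two points is transitive on the others
  have hB3 : ∀ z, z ≠ u → z ≠ v → ∃ g : B, g • u = u ∧ g • v = v ∧ g • x = z := by
    intro z hzu hzv
    let d : Fin 3 ↪ β := ⟨![u, v, x], fun i j h => by
      fin_cases i <;> fin_cases j <;>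
        simp_all [huv.symm, Ne.symm hx.1, Ne.symm hx.2]⟩
    let d' : Fin 3 ↪ β := ⟨![u, v, z], fun i j h => by
      fin_cases i <;> fin_cases j <;>
        simp_all [huv.symm, Ne.symm hzu, Ne.symm hzv]⟩
    obtain ⟨g, hg⟩ := hB.exists_smul_eq d d'
    exact ⟨g, DFunLike.congr_fun hg 0, DFunLike.congr_fun hg 1, DFunLike.congr_fun hg 2⟩
  obtain ⟨s, su, sv, sx⟩ := hB3 y hy.1 hy.2
  have hsA : s ∉ A := fun h => hno s h su sv sx
  let W : β → Finset β := fun w => Finset.univ.filter fun z => ∃ g ∈ A, g • u = u ∧ g • v = v ∧ g • w = z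
  have hW : ∀ w z, z ∈ W w ↔ ∃ g ∈ A, g • u = u ∧ g • v = v ∧ g • w = z := fun w z => by simp [W]
  have hinv : ∀ g : B, g • u = u → g • v = v → g⁻¹ • u = u ∧ g⁻¹ • v = v := fun g gu gv =>
    ⟨inv_smul_eq_iff.2 gu.symm, inv_smul_eq_iff.2 gv.symm⟩
  have hunion : Finset.univ \ {u, v} = W x ∪ W y := by
    ext z
    simp only [Finset.mem_sdiff, Finset.mem_univ, true_and, Finset.mem_insert, Finset.mem_singleton,
      not_or, Finset.mem_union, hW]
    constructor
    · rintro ⟨hzu, hzv⟩
      obtain ⟨g, gu, gv, gx⟩ := hB3 z hzu hzv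
      by_cases hgA : g ∈ A
      · exact Or.inl ⟨g, hgA, gu, gv, gx⟩
      · refine Or.inr ⟨g * s⁻¹, ?_, by rw [mul_smul, (hinv s su sv).1, gu],
          by rw [mul_smul, (hinv s su sv).2, gv], by rw [mul_smul, ← sx, inv_smul_smul, gx]⟩
        rw [Subgroup.mul_mem_iff_of_index_two hA]
        exact iff_of_false hgA (fun h => hsA (inv_mem_iff.1 h))
    · rintro (⟨g, -, gu, gv, rfl⟩ | ⟨g, -, gu, gv, rfl⟩)
      · exact ⟨fun h => hx.1 (MulAction.injective g (h.trans gu.symm)),
          fun h => hx.2 (MulAction.injective g (h.trans gv.symm))⟩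
      · exact ⟨fun h => hy.1 (MulAction.injective g (h.trans gu.symm)),
          fun h => hy.2 (MulAction.injective g (h.trans gv.symm))⟩
  have hdisj : Disjoint (W x) (W y) := by
    rw [Finset.disjoint_left]
    intro z h h'
    obtain ⟨g, hg, gu, gv, gx⟩ := (hW _ _).1 h
    obtain ⟨k, hk, ku, kv, ky⟩ := (hW _ _).1 h'
    refine hno (k⁻¹ * g) (A.mul_mem (A.inv_mem hk) hg) ?_ ?_ ?_
    · rw [mul_smul, gu, (hinv k ku kv).1]
    · rw [mul_smul, gv, (hinv k ku kv).2]
    · rw [mul_smul, gx, ← ky, inv_smul_smul]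
  have hcard : (W x).card = (W y).card := by
    refine Finset.card_bij (fun z _ => s • z) (fun z hz => ?_) (fun a _ b _ h => MulAction.injective s h)
      fun z hz => ?_
    · obtain ⟨g, hg, gu, gv, gx⟩ := (hW _ _).1 hz
      refine (hW _ _).2 ⟨s * g * s⁻¹, hAn.conj_mem g hg s, ?_, ?_, ?_⟩
      · rw [mul_smul, mul_smul, (hinv s su sv).1, gu, su]
      · rw [mul_smul, mul_smul, (hinv s su sv).2, gv, sv]
      · rw [mul_smul, mul_smul, ← sx, inv_smul_smul, gx]
    · obtain ⟨g, hg, gu, gv, gy⟩ := (hW _ _).1 hz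
      refine ⟨s⁻¹ • z, (hW _ _).2 ⟨s⁻¹ * g * s, ?_, ?_, ?_, ?_⟩, smul_inv_smul s z⟩
      · simpa using hAn.conj_mem g hg s⁻¹
      · rw [mul_smul, mul_smul, su, gu, (hinv s su sv).1]
      · rw [mul_smul, mul_smul, sv, gv, (hinv s su sv).2]
      · rw [mul_smul, mul_smul, sx, gy]
  have h1 := congrArg Finset.card hunion
  rw [Finset.card_univ_sdiff, Finset.card_union_of_disjoint hdisj, Finset.card_pair huv, hβ] at h1
  rcases hq.eq_two_or_odd with h | h <;> omega

/-- The pairs: permutations in `G` fixing a set of two points. -/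
def pairStab (G : Subgroup (Equiv.Perm α)) (a b : α) : Subgroup (Equiv.Perm α) where
  carrier := {g | g ∈ G ∧ ((g a = a ∧ g b = b) ∨ (g a = b ∧ g b = a))}
  one_mem' := ⟨G.one_mem, Or.inl ⟨rfl, rfl⟩⟩
  mul_mem' := by
    rintro g h ⟨hg, hg'⟩ ⟨hh, hh'⟩
    refine ⟨G.mul_mem hg hh, ?_⟩
    rcases hg' with ⟨g1, g2⟩ | ⟨g1, g2⟩ <;> rcases hh' with ⟨h1, h2⟩ | ⟨h1, h2⟩ <;>
      simp [Equiv.Perm.mul_apply, g1, g2, h1, h2]
  inv_mem' := by
    rintro g ⟨hg, hg'⟩
    refine ⟨G.inv_mem hg, ?_⟩
    rcases hg' with ⟨g1, g2⟩ | ⟨g1, g2⟩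
    · exact Or.inl ⟨Equiv.Perm.inv_eq_iff_eq.2 g1.symm, Equiv.Perm.inv_eq_iff_eq.2 g2.symm⟩
    · exact Or.inr ⟨Equiv.Perm.inv_eq_iff_eq.2 g2.symm, Equiv.Perm.inv_eq_iff_eq.2 g1.symm⟩

/-- The action on the other points. -/
def pairHom (G : Subgroup (Equiv.Perm α)) (a b : α) :
    pairStab G a b →* Equiv.Perm {z // z ≠ a ∧ z ≠ b} where
  toFun g := (g : Equiv.Perm α).subtypePerm fun z => by
    have key : (g : Equiv.Perm α) z = a ∨ (g : Equiv.Perm α) z = b ↔ z = a ∨ z = b := by
      have inj : ∀ {u v : α}, (g : Equiv.Perm α) u = (g : Equiv.Perm α) v → u = v :=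
        fun h => (g : Equiv.Perm α).injective h
      rcases g.2.2 with ⟨g1, g2⟩ | ⟨g1, g2⟩
      · refine ⟨fun h => h.imp (fun h => inj (h.trans g1.symm)) (fun h => inj (h.trans g2.symm)), ?_⟩
        rintro (rfl | rfl)
        exacts [Or.inl g1, Or.inr g2]
      · refine ⟨fun h => (h.imp (fun h => inj (h.trans g2.symm)) (fun h => inj (h.trans g1.symm))).symm, ?_⟩
        rintro (rfl | rfl)
        exacts [Or.inr g1, Or.inl g2]
    rw [← not_or, ← not_or, key]
  map_one' := by ext; rfl
  map_mul' g h := by ext; rfl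

set_option maxHeartbeats 800000 in
theorem five_transitive (hα : Nat.card α = p) [IsPretransitive G α] (hins : ¬ Group.IsSolvable G)
    (P : Sylow p G)
    (hN : 2 * Nat.card (Subgroup.normalizer ((P : Subgroup G) : Set G)) = p * (p - 1))
    {q : ℕ} (hq : q.Prime) (hq5 : 5 < q) (hpq : p = q + 2) :
    IsMultiplyPretransitive G α 5 := by
  classical
  have hp : p.Prime := Fact.out
  haveI := Fact.mk hq
  have hαc : Fintype.card α = p := by rw [← Nat.card_eq_fintype_card, hα]
  have hne := ne_top hα (by omega) P hN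
  -- triple transitivity
  have h3 : IsMultiplyPretransitive G α 3 := by
    rcases (by have := hp.eq_two_or_odd; omega : p % 4 = 1 ∨ p % 4 = 3) with h | h
    · refine Cfsg.Agent.S0676.result hαc G hins P ?_
      obtain ⟨k, hk⟩ : ∃ k, p - 1 = 4 * k := ⟨(p - 1) / 4, by omega⟩
      refine even_iff_two_dvd.2 ⟨p * k, ?_⟩
      rw [hk] at hN
      refine Nat.eq_of_mul_eq_mul_left two_pos (hN.trans ?_)
      ring
    · obtain ⟨C⟩ := Cfsg.Agent.Perm.HalfNormalizer.exists_coord hp hα inferInstance hins P hN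
      exact C.three_transitive (by omega) (by rwa [hpq, Nat.add_sub_cancel])
  haveI h2 : IsMultiplyPretransitive G α 2 :=
    MulAction.isMultiplyPretransitive_of_le (n := 3) (by norm_num) (by omega)
  have hprim : IsPreprimitive G α := MulAction.isPreprimitive_of_is_two_pretransitive h2
  have key : ∀ a b : α, a ≠ b → ∀ c d x y : α, c ≠ a → c ≠ b → d ≠ a → d ≠ b → x ≠ a → x ≠ b →
      y ≠ a → y ≠ b → c ≠ d → x ≠ c → x ≠ d → y ≠ c → y ≠ d →
      ∃ g : G, g • a = a ∧ g • b = b ∧ g • c = c ∧ g • d = d ∧ g • x = y := by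
    intro a b hab
    let B := pairStab G a b
    let ρ := pairHom G a b
    have hρi : Function.Injective ρ := by
      rw [injective_iff_map_eq_one]
      intro g hg
      have hfix : ∀ z, z ≠ a → z ≠ b → (g : Equiv.Perm α) z = z := fun z hza hzb => by
        have := Equiv.ext_iff.1 hg ⟨z, hza, hzb⟩
        exact congrArg Subtype.val this
      rcases g.2.2 with ⟨g1, g2⟩ | ⟨g1, g2⟩
      · refine Subtype.ext (Equiv.ext fun z => ?_)
        by_cases hza : z = a
        · rw [hza, g1]; rfl
        by_cases hzb : z = b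
        · rw [hzb, g2]; rfl
        exact hfix z hza hzb
      · exfalso
        refine hne (Equiv.Perm.subgroup_eq_top_of_isPreprimitive_of_isSwap_mem hprim _ ⟨a, b, hab, ?_⟩ g.2.1)
        ext z
        by_cases hza : z = a
        · simp [hza, g1]
        by_cases hzb : z = b
        · simp [hzb, g2]
        rw [hfix z hza hzb, Equiv.swap_apply_of_ne_of_ne hza hzb]
    let E : B ≃* ρ.range := MonoidHom.ofInjective hρi
    let A₀ : Subgroup B :=
      { carrier := {g | (g : Equiv.Perm α) a = a}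
        one_mem' := rfl
        mul_mem' := fun {g h} hg hh => by
          show (g : Equiv.Perm α) ((h : Equiv.Perm α) a) = a
          rw [show (h : Equiv.Perm α) a = a from hh]; exact hg
        inv_mem' := fun {g} hg => Equiv.Perm.inv_eq_iff_eq.2 (Eq.symm hg) }
    have hA₀ : ∀ g : B, g ∈ A₀ → (g : Equiv.Perm α) b = b := fun g hg =>
      g.2.2.elim And.right fun h => absurd ((show (g : Equiv.Perm α) a = a from hg).symm.trans h.1) hab
    have hA₀i : A₀.index = 2 := by
      obtain ⟨s, s1, s2⟩ := (MulAction.is_two_pretransitive_iff.1 h2) hab hab.symm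
      rw [Subgroup.index_eq_two_iff]
      refine ⟨⟨s, s.2, Or.inr ⟨s1, s2⟩⟩, fun g => ?_⟩
      have e1 : (g : Equiv.Perm α) ((s : Equiv.Perm α) a) = (g : Equiv.Perm α) b := congrArg _ s1
      show Xor ((g : Equiv.Perm α) ((s : Equiv.Perm α) a) = a) ((g : Equiv.Perm α) a = a)
      rw [e1]
      rcases g.2.2 with ⟨g1, g2⟩ | ⟨g1, g2⟩
      · exact Or.inr ⟨g1, by rw [g2]; exact hab.symm⟩
      · exact Or.inl ⟨g2, by rw [g1]; exact hab.symm⟩
    let A : Subgroup ρ.range := A₀.map E.toMonoidHom
    have hAi : A.index = 2 := by rw [← hA₀i]; exact Subgroup.index_map_equiv A₀ E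
    -- transitivity on the other points
    have hmv : ∀ z w : {z // z ≠ a ∧ z ≠ b}, ∃ g : B, g ∈ A₀ ∧ ρ g z = w := by
      intro z w
      let d : Fin 3 ↪ α := ⟨![a, b, z], fun i j h => by
        fin_cases i <;> fin_cases j <;>
          simp_all [hab.symm, Ne.symm z.2.1, Ne.symm z.2.2, z.2.1, z.2.2]⟩
      let d' : Fin 3 ↪ α := ⟨![a, b, w], fun i j h => by
        fin_cases i <;> fin_cases j <;>
          simp_all [hab.symm, Ne.symm w.2.1, Ne.symm w.2.2, w.2.1, w.2.2]⟩
      obtain ⟨g, hg⟩ := h3.exists_smul_eq d d'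
      exact ⟨⟨g, g.2, Or.inl ⟨DFunLike.congr_fun hg 0, DFunLike.congr_fun hg 1⟩⟩,
        DFunLike.congr_fun hg 0, Subtype.ext (DFunLike.congr_fun hg 2)⟩
    haveI hAt : IsPretransitive A {z // z ≠ a ∧ z ≠ b} := ⟨fun z w => by
      obtain ⟨g, hg, hgz⟩ := hmv z w
      exact ⟨⟨E g, Subgroup.mem_map_of_mem _ hg⟩, hgz⟩⟩
    haveI hBt : IsPretransitive ρ.range {z // z ≠ a ∧ z ≠ b} := ⟨fun z w => by
      obtain ⟨⟨g, _⟩, hg⟩ := hAt.exists_smul_eq z w
      exact ⟨g, hg⟩⟩
    have hβ : Fintype.card {z // z ≠ a ∧ z ≠ b} = q := by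
      rw [Fintype.card_subtype,
        show (Finset.univ.filter fun z : α => z ≠ a ∧ z ≠ b) = Finset.univ \ {a, b} by ext; simp,
        Finset.card_univ_sdiff, Finset.card_pair hab, hαc]
      omega
    have hβn : Nat.card {z // z ≠ a ∧ z ≠ b} = q := by rw [Nat.card_eq_fintype_card, hβ]
    have hBins : ¬ Group.IsSolvable ρ.range := by
      intro hsol
      obtain ⟨M, hMn, -, hMne, hMmin⟩ :=
        Hall.exists_minimal_normal (⊤ : Subgroup ρ.range) fun hbot => by
          have h := A.index_dvd_card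
          rw [hAi, ← Subgroup.card_top (G := ρ.range), hbot, Subgroup.card_bot] at h
          norm_num at h
      haveI := hMn
      haveI : Nonempty {z // z ≠ a ∧ z ≠ b} := Fintype.card_pos_iff.1 (by omega)
      obtain ⟨z₀⟩ := ‹Nonempty {z // z ≠ a ∧ z ≠ b}›
      obtain ⟨hMt, hMreg, r, k, hr, hk, hqk, hMc⟩ := Cfsg.Agent.S0547.result
        (IsPreprimitive.of_prime_card (by rw [hβn]; exact hq)) M hMne hMmin
      rw [← hqk, hβn] at hMc
      haveI : IsCyclic M := isCyclic_of_prime_card hMc
      -- the stabilizer embeds in the automorphisms of the regular normal subgroup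
      have hS : Nat.card (stabilizer ρ.range z₀) ∣ q - 1 := by
        let φ : stabilizer ρ.range z₀ →* MulAut M :=
          (MulAut.conjNormal (H := M)).comp (stabilizer ρ.range z₀).subtype
        have hφ : Function.Injective φ := by
          rw [injective_iff_map_eq_one]
          intro g hg
          refine Subtype.ext (Subtype.ext (Equiv.ext fun z => ?_))
          obtain ⟨m, rfl⟩ := hMt.exists_smul_eq z₀ z
          have hc : ((MulAut.conjNormal (g : ρ.range) m : M) : ρ.range) = m := by
            rw [show MulAut.conjNormal (g : ρ.range) = (1 : MulAut M) from hg]; rfl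
          rw [MulAut.conjNormal_apply] at hc
          show (g : ρ.range) • (m : ρ.range) • z₀ = (m : ρ.range) • z₀
          rw [← mul_smul, mul_inv_eq_iff_eq_mul.1 hc, mul_smul, mem_stabilizer_iff.1 g.2]
        have h := Subgroup.card_dvd_of_injective φ hφ
        rwa [IsCyclic.card_mulAut, hMc, Nat.totient_prime hq] at h
      set s := Nat.card (stabilizer ρ.range z₀) with hs
      have hB' : Nat.card ρ.range = s * q := by
        rw [← (stabilizer ρ.range z₀).card_mul_index, index_stabilizer_of_transitive, hβn]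
      -- orders
      have hB : Nat.card B = s * q := by rw [Nat.card_congr E.toEquiv, hB']
      have hA : 2 * Nat.card A₀ = s * q := by rw [← hB, ← A₀.card_mul_index, hA₀i, mul_comm]
      have hG : Nat.card G = Nat.card A₀ * (p * (p - 1)) := by
        have horb : orbit G (a, b) = (Finset.univ.offDiag : Finset (α × α)) := by
          ext ⟨u, v⟩
          simp only [Finset.mem_coe, Finset.mem_offDiag, Finset.mem_univ, true_and]
          constructor
          · rintro ⟨g, hg⟩ huv
            exact hab (MulAction.injective g ((Prod.ext_iff.1 hg).1.trans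
              (huv.trans (Prod.ext_iff.1 hg).2.symm)))
          · intro huv
            obtain ⟨g, g1, g2⟩ := (MulAction.is_two_pretransitive_iff.1 h2) hab huv
            exact ⟨g, Prod.ext g1 g2⟩
        have hidx : (stabilizer G (a, b)).index = p * (p - 1) := by
          rw [index_stabilizer, horb, Set.ncard_coe_finset, Finset.offDiag_card, Finset.card_univ,
            hαc, Nat.mul_sub_one]
        rw [← (stabilizer G (a, b)).card_mul_index, hidx]
        congr 1
        exact Nat.card_congr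
          { toFun := fun g => ⟨⟨((g : G) : Equiv.Perm α), (g : G).2,
              Or.inl (Prod.ext_iff.1 (mem_stabilizer_iff.1 g.2))⟩,
              (Prod.ext_iff.1 (mem_stabilizer_iff.1 g.2)).1⟩
            invFun := fun g => ⟨⟨(g : B).1, (g : B).2.1⟩,
              mem_stabilizer_iff.2 (Prod.ext (show (g : B).1 a = a from g.2) (hA₀ _ g.2))⟩
            left_inv := fun g => rfl
            right_inv := fun g => rfl }
      -- the number of Sylow subgroups
      have hn : Nat.card (Sylow p G) = s * q := by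
        have h1 := (Subgroup.normalizer ((P : Subgroup G) : Set G)).card_mul_index
        have e1 : Nat.card (Sylow p G) = (Subgroup.normalizer ((P : Subgroup G) : Set G)).index :=
          P.card_eq_index_normalizer
        rw [← e1, hG] at h1
        have h2' : p * (p - 1) * Nat.card (Sylow p G) = p * (p - 1) * (2 * Nat.card A₀) := by
          rw [← hN, mul_assoc, h1, hN]
          ring
        rw [← hA]
        exact Nat.eq_of_mul_eq_mul_left (Nat.mul_pos hp.pos (by omega)) h2'
      have hmod : (((s * q : ℕ)) : ZMod p) = 1 := by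
        rw [← hn, ← Nat.cast_one, ZMod.natCast_eq_natCast_iff]
        exact card_sylow_modEq_one p G
      have hqz : (q : ZMod p) = -2 := by
        have h := congrArg (Nat.cast : ℕ → ZMod p) hpq
        rw [ZMod.natCast_self, Nat.cast_add] at h
        push_cast at h
        linear_combination -h
      have hdvd : p ∣ 2 * s + 1 := by
        rw [← ZMod.natCast_eq_zero_iff]
        push_cast at hmod ⊢
        rw [hqz] at hmod
        linear_combination -hmod
      have hsle := Nat.le_of_dvd (by omega) hS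
      obtain ⟨k', hk'⟩ := hdvd
      have hk1 : k' = 1 := by
        rcases k' with _ | _ | k'
        · omega
        · rfl
        · exfalso
          have := Nat.mul_le_mul_left p (show 2 ≤ k' + 1 + 1 by omega)
          omega
      rw [hk1, mul_one] at hk'
      have h22 : s ∣ 2 := by
        have h4 : q - 1 + 2 = 2 * s := by omega
        exact (Nat.dvd_add_right hS).1 (h4 ▸ dvd_mul_left s 2)
      have := Nat.le_of_dvd two_pos h22
      omega
    obtain ⟨Q⟩ : Nonempty (Sylow q ρ.range) := inferInstance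
    have hB3 : IsMultiplyPretransitive ρ.range {z // z ≠ a ∧ z ≠ b} 3 :=
      Cfsg.Agent.S0676.result hβ ρ.range hBins Q (even_normalizer (by omega) hAi Q)
    have hA3 := three_of_index_two hβ hq (by omega) ρ.range hB3 A hAi hAt
    intro c d x y hca hcb hda hdb hxa hxb hya hyb hcd hxc hxd hyc hyd
    let D : Fin 3 ↪ {z // z ≠ a ∧ z ≠ b} := ⟨![⟨c, hca, hcb⟩, ⟨d, hda, hdb⟩, ⟨x, hxa, hxb⟩], fun i j h => by
      fin_cases i <;> fin_cases j <;> simp_all [hcd.symm, hxc.symm, hxd.symm]⟩
    let D' : Fin 3 ↪ {z // z ≠ a ∧ z ≠ b} := ⟨![⟨c, hca, hcb⟩, ⟨d, hda, hdb⟩, ⟨y, hya, hyb⟩], fun i j h => by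
      fin_cases i <;> fin_cases j <;> simp_all [hcd.symm, hyc.symm, hyd.symm]⟩
    obtain ⟨⟨_, hg⟩, hgD⟩ := hA3.exists_smul_eq D D'
    obtain ⟨g, hgA, rfl⟩ := Subgroup.mem_map.1 hg
    exact ⟨⟨g.1, g.2.1⟩, hgA, hA₀ g hgA, congrArg Subtype.val (DFunLike.congr_fun hgD 0),
      congrArg Subtype.val (DFunLike.congr_fun hgD 1), congrArg Subtype.val (DFunLike.congr_fun hgD 2)⟩
  refine Cfsg.Agent.Perm.Basic.isMultiplyPretransitive_of_fixing_pred (by omega) ?_
  intro t ht x y hx hy
  obtain ⟨a, b, c, d, hab, hac, had, hbc, hbd, hcd, rfl⟩ :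
      ∃ a b c d : α, a ≠ b ∧ a ≠ c ∧ a ≠ d ∧ b ≠ c ∧ b ≠ d ∧ c ≠ d ∧ t = {a, b, c, d} := by
    obtain ⟨a, t', ha, rfl, ht'⟩ := Finset.card_eq_succ.1 (by omega : t.card = 3 + 1)
    obtain ⟨b, c, d, hbc, hbd, hcd, rfl⟩ := Finset.card_eq_three.1 ht'
    simp only [Finset.mem_insert, Finset.mem_singleton, not_or] at ha
    exact ⟨a, b, c, d, ha.1, ha.2.1, ha.2.2, hbc, hbd, hcd, rfl⟩
  simp only [Finset.mem_insert, Finset.mem_singleton, not_or] at hx hy
  obtain ⟨g, ga, gb, gc, gd, gx⟩ := key a b hab c d x y hac.symm hbc.symm had.symm hbd.symm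
    hx.1 hx.2.1 hy.1 hy.2.1 hcd hx.2.2.1 hx.2.2.2 hy.2.2.1 hy.2.2.2
  refine ⟨g, fun z hz => ?_, gx⟩
  simp only [Finset.mem_insert, Finset.mem_singleton] at hz
  rcases hz with rfl | rfl | rfl | rfl <;> assumption

end Cfsg.Agent.Perm.PrimeTwins
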