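import Mathlib

/-!
A faithful action as a subgroup of the symmetric group, keeping track of a Sylow normalizer.
-/

set_option autoImplicit false

namespace Cfsg.Agent.Perm.PrimeTwins

variable {G Ω : Type*} [Group G] [Finite G] [MulAction G Ω] [FaithfulSMul G Ω] [Finite Ω] {p : ℕ}

theorem exists_image [Fact p.Prime] (htrans : MulAction.IsPretransitive G Ω)
    (hins : ¬ Group.IsSolvable G) (P : Sylow p G)
    (hN : 2 * Nat.card ↥(Subgroup.normalizer ((P : Subgroup G) : Set G)) = p * (p - 1)) :
    ∃ (H : Subgroup (Equiv.Perm Ω)) (e : G ≃* H) (P' : Sylow p H),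
      (∀ (g : G) (x : Ω), (e g) • x = g • x) ∧ MulAction.IsPretransitive H Ω ∧ ¬ Group.IsSolvable H ∧
      2 * Nat.card ↥(Subgroup.normalizer ((P' : Subgroup H) : Set H)) = p * (p - 1) := by
  have hinj : Function.Injective (MulAction.toPermHom G Ω) := MulAction.toPerm_injective
  let e : G ≃* (MulAction.toPermHom G Ω).range := MonoidHom.ofInjective hinj
  have hs : Function.Surjective e.toMonoidHom := e.surjective
  refine ⟨_, e, P.mapSurjective hs, fun g x => rfl, ⟨fun a b => ?_⟩,
    fun h => hins (Group.isSolvable_of_isSolvable_injective (f := e.toMonoidHom) e.injective), ?_⟩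
  · obtain ⟨g, hg⟩ := htrans.exists_smul_eq a b
    exact ⟨e g, hg⟩
  · rw [← hN]
    congr 1
    show Nat.card (Subgroup.normalizer (((P : Subgroup G).map e.toMonoidHom :
      Subgroup (MulAction.toPermHom G Ω).range) : Set (MulAction.toPermHom G Ω).range)) = _
    rw [← Subgroup.map_equiv_normalizer_eq (P : Subgroup G) e,
      Subgroup.card_map_of_injective (f := e.toMonoidHom) e.injective]

omit [Finite G] [FaithfulSMul G Ω] [Finite Ω] in
theorem isMultiplyPretransitive_of_equiv {H : Subgroup (Equiv.Perm Ω)} (e : G ≃* H)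
    (he : ∀ (g : G) (x : Ω), (e g) • x = g • x) {k : ℕ}
    (h : MulAction.IsMultiplyPretransitive H Ω k) : MulAction.IsMultiplyPretransitive G Ω k := by
  refine ⟨fun d d' => ?_⟩
  obtain ⟨g, hg⟩ := h.exists_smul_eq d d'
  refine ⟨e.symm g, Function.Embedding.ext fun i => ?_⟩
  show e.symm g • d i = d' i
  rw [← he, e.apply_symm_apply]
  exact DFunLike.congr_fun hg i

end Cfsg.Agent.Perm.PrimeTwins
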