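import Cfsg.Agent.Lib.Perm.PrimeTwins.Affine
import Cfsg.Agent.Lib.Perm.PrimeTwins.Image
import Cfsg.Agent.Lib.Forms.KleinPSL
import Cfsg.Agent.Lib.Classical.CyclicExt
import Cfsg.Agent.S0676
import Cfsg.Agent.S0547
import Cfsg.Agent.S3572
import Cfsg.Agent.S3612

/-!
Mathieu's problem: a group of even permutations of `p + 1` points properly containing a doubly
transitive `PSL(2, p)` is four-fold transitive. The stabilizer of a point has degree `p` and a half
Sylow normalizer; for `p ≡ 3 (mod 4)` the setwise stabilizer of two points is primitive on the others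
and contains a regular dihedral group, so is doubly transitive there.
-/

set_option autoImplicit false
set_option linter.style.haveILetI false

namespace Cfsg.Agent.Perm.PrimeTwins

open MulAction
open scoped MatrixGroups

/-- In `PSL(2, p)`, `p ≡ 3 (mod 4)`, an involution centralizes no element of order dividing `(p - 1)/2`. -/
theorem psl_commute {p : ℕ} [Fact p.Prime] (h3 : p % 4 = 3)
    {w c : Matrix.ProjectiveSpecialLinearGroup (Fin 2) (ZMod p)} (hw : orderOf w = 2)
    (hwc : Commute w c) (hc : c ^ ((p - 1) / 2) = 1) : c = 1 := by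
  classical
  have h2 : (2 : ZMod p) ≠ 0 := by
    intro h
    have : ((2 : ℕ) : ZMod p) = 0 := by exact_mod_cast h
    rw [ZMod.natCast_eq_zero_iff] at this
    have := Nat.le_of_dvd two_pos this
    omega
  obtain ⟨W, rfl⟩ := Forms.KleinPSL.pi_surjective w
  obtain ⟨C, rfl⟩ := Forms.KleinPSL.pi_surjective c
  have hW := (Forms.KleinPSL.orderOf_pi_eq_two h2).1 hw
  have hD : (C * C) * W = W * (C * C) := by
    rcases Forms.KleinPSL.comm_cases hwc.symm with h | h
    · rw [mul_assoc, h, ← mul_assoc, h, mul_assoc]
    · rw [mul_assoc, h, mul_neg, ← mul_assoc, h, neg_mul, neg_neg, mul_assoc]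
  have hcard : Nat.card (Subgroup.centralizer ({W} : Set SL(2, ZMod p))) = p + 1 := by
    have h := (Forms.KleinSL2.natCard_circ_one (F := ZMod p) h2).2 (by rw [ZMod.card]; exact h3)
    rw [ZMod.card] at h
    rw [← h, ← Forms.KleinPSL.natCard_cent_of h2 hW]
    exact Nat.card_congr (Equiv.subtypeEquivRight fun g => Subgroup.mem_centralizer_singleton_iff)
  have hpow : (C * C) ^ (p + 1) = 1 := by
    have := pow_card_eq_one'
      (x := (⟨C * C, Subgroup.mem_centralizer_singleton_iff.2 hD⟩ :
        Subgroup.centralizer ({W} : Set SL(2, ZMod p))))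
    rw [hcard] at this
    exact congrArg Subtype.val this
  have h1 : (Forms.KleinPSL.pi (ZMod p) C) ^ (2 * (p + 1)) = 1 := by
    rw [pow_mul, pow_two, ← map_mul, ← map_pow, hpow, map_one]
  have hcop : Nat.gcd (2 * (p + 1)) ((p - 1) / 2) = 1 := by
    have hq : (p - 1) / 2 % 2 = 1 := by omega
    have e : p + 1 = 2 * ((p - 1) / 2) + 2 := by omega
    have c2 : Nat.Coprime 2 ((p - 1) / 2) :=
      Nat.prime_two.coprime_iff_not_dvd.2 (by omega)
    refine Nat.Coprime.mul_left c2 ?_
    rw [e, add_comm, mul_comm, Nat.coprime_add_mul_left_left]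
    exact c2
  have := pow_gcd_eq_one.2 ⟨h1, hc⟩
  rwa [hcop, pow_one] at this

/-- In a group of prime degree, the even part of a full normalizer is half of it. -/
theorem normalizer_stab_ne_full {G Ω : Type*} [Group G] [Finite G] [MulAction G Ω] [FaithfulSMul G Ω]
    [Fintype Ω] [DecidableEq Ω] {p : ℕ} [Fact p.Prime] (hp : p ≠ 2) (hΩ : Nat.card Ω = p)
    {P : Subgroup G} (hP : Nat.card P = p) (b : Ω)
    (heven : ∀ g : G, Equiv.Perm.sign (MulAction.toPerm g : Equiv.Perm Ω) = 1) :
    Nat.card ↥(Subgroup.normalizer (P : Set G) ⊓ stabilizer G b) ≠ p - 1 := by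
  intro hcard
  have hpp : p.Prime := Fact.out
  set S := Subgroup.normalizer (P : Set G) ⊓ stabilizer G b with hS
  obtain ⟨hcyc, -⟩ := cyclic_mulAut hP
  haveI := hcyc
  haveI : IsCyclic S := isCyclic_of_injective (conjHom P b) (conjHom_injective hΩ hP b)
  obtain ⟨g, hg⟩ := IsCyclic.exists_ofOrder_eq_natCard (α := S)
  rw [hcard] at hg
  set σ : Equiv.Perm Ω := MulAction.toPerm (g : G) with hσ
  have hσpow : ∀ (i : ℕ) z, (σ ^ i) z = ((g : G) ^ i) • z := by
    intro i
    induction i with
    | zero => simp
    | succ i ih => intro z; rw [pow_succ', pow_succ', Equiv.Perm.mul_apply, ih, mul_smul]; rfl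
  have hfix : ∀ (i : ℕ) z, z ≠ b → ((g : G) ^ i) • z = z → p - 1 ∣ i := by
    intro i z hz hzi
    have h1 := eq_one_of_fix hΩ hP (Subgroup.pow_mem _ g.2.1 i) (b := b) (c := z)
      ((Subgroup.pow_mem _ g.2.2 i : (g : G) ^ i ∈ stabilizer G b)) hzi hz.symm
    rw [← hg, orderOf_dvd_iff_pow_eq_one]
    exact Subtype.ext h1
  have hb : ∀ i : ℕ, ((g : G) ^ i) • b = b := fun i => Subgroup.pow_mem _ g.2.2 i
  have hp3 : 3 ≤ p := by have := hpp.two_le; omega
  obtain ⟨z₀, hz₀⟩ : ∃ z₀, z₀ ≠ b :=
    Fintype.exists_ne_of_one_lt_card (by rw [← Nat.card_eq_fintype_card, hΩ]; omega) b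
  -- the orbit of `z₀` is everything but `b`
  have hinj : Set.InjOn (fun i => ((g : G) ^ i) • z₀) (Finset.range (p - 1) : Set ℕ) := by
    intro i hi j hj hij
    simp only [Finset.coe_range, Set.mem_Iio] at hi hj
    wlog hle : i ≤ j generalizing i j
    · exact (this hij.symm hj hi (le_of_not_ge hle)).symm
    have h : ((g : G) ^ (j - i)) • z₀ = z₀ := by
      refine MulAction.injective ((g : G) ^ i) ?_
      show (g : G) ^ i • (g : G) ^ (j - i) • z₀ = (g : G) ^ i • z₀
      rw [← mul_smul, ← pow_add, Nat.add_sub_cancel' hle]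
      exact hij.symm
    have := Nat.eq_zero_of_dvd_of_lt (hfix _ _ hz₀ h) (by omega)
    omega
  have horb : (Finset.range (p - 1)).image (fun i => ((g : G) ^ i) • z₀) = Finset.univ.erase b := by
    refine Finset.eq_of_subset_of_card_le (fun z hz => ?_) ?_
    · obtain ⟨i, -, rfl⟩ := Finset.mem_image.1 hz
      exact Finset.mem_erase.2 ⟨fun h => hz₀ (MulAction.injective _ (h.trans (hb i).symm)),
        Finset.mem_univ _⟩
    · rw [Finset.card_image_of_injOn hinj, Finset.card_range, Finset.card_erase_of_mem (Finset.mem_univ b),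
        Finset.card_univ, ← Nat.card_eq_fintype_card, hΩ]
  have hsupp : σ.support = Finset.univ.erase b := by
    ext z
    rw [Equiv.Perm.mem_support, Finset.mem_erase]
    constructor
    · exact fun h => ⟨fun hzb => h (by rw [hzb]; exact g.2.2), Finset.mem_univ z⟩
    · rintro ⟨hz, -⟩ h
      have h' := Nat.le_of_dvd one_pos (hfix 1 z hz (by rw [pow_one]; exact h))
      omega
  have hcycle : σ.IsCycle := by
    refine ⟨z₀, Equiv.Perm.mem_support.1 (hsupp ▸ Finset.mem_erase.2 ⟨hz₀, Finset.mem_univ _⟩),
      fun y hy => ?_⟩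
    obtain ⟨i, -, hi⟩ := Finset.mem_image.1 (horb.symm ▸ hsupp ▸ Equiv.Perm.mem_support.2 hy :
      y ∈ (Finset.range (p - 1)).image _)
    exact ⟨(i : ℤ), by rw [zpow_natCast, hσpow]; exact hi⟩
  have hsign : Equiv.Perm.sign σ = -1 := by
    rw [hcycle.sign, hsupp, Finset.card_erase_of_mem (Finset.mem_univ b), Finset.card_univ,
      ← Nat.card_eq_fintype_card, hΩ, Even.neg_one_pow ((hpp.odd_of_ne_two hp).tsub_odd odd_one)]
  exact absurd (hsign.symm.trans (heven g)) (by decide)

/-- A subgroup of index two of a group transitive on an odd number of points is transitive. -/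
theorem transitive_of_index_two {G β : Type*} [Group G] [MulAction G β] [Finite β]
    (hodd : Odd (Nat.card β)) [htr : IsPretransitive G β] (K : Subgroup G)
    (hK : K.index = 2) : IsPretransitive K β := by
  classical
  haveI := Fintype.ofFinite β
  haveI hn : K.Normal := Subgroup.normal_of_index_eq_two hK
  refine ⟨fun x y => ?_⟩
  by_contra hcon
  push Not at hcon
  obtain ⟨s, hs⟩ := htr.exists_smul_eq x y
  have hsK : s ∉ K := fun h => hcon ⟨s, h⟩ hs
  let W : β → Finset β := fun u => Finset.univ.filter fun z => ∃ g ∈ K, g • u = z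
  have hW : ∀ u z, z ∈ W u ↔ ∃ g ∈ K, g • u = z := fun u z => by simp [W]
  have hu : W x ∪ W y = Finset.univ := by
    refine Finset.eq_univ_iff_forall.2 fun z => ?_
    obtain ⟨g, hg⟩ := htr.exists_smul_eq x z
    rw [Finset.mem_union, hW, hW]
    by_cases hgK : g ∈ K
    · exact Or.inl ⟨g, hgK, hg⟩
    · exact Or.inr ⟨g * s⁻¹, (Subgroup.mul_mem_iff_of_index_two hK).2
        (iff_of_false hgK fun h => hsK (inv_mem_iff.1 h)), by rw [mul_smul, ← hs, inv_smul_smul, hg]⟩
  have hd : Disjoint (W x) (W y) := by
    rw [Finset.disjoint_left]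
    intro z h h'
    obtain ⟨g, hg, gx⟩ := (hW _ _).1 h
    obtain ⟨k, hk, ky⟩ := (hW _ _).1 h'
    refine hcon ⟨k⁻¹ * g, K.mul_mem (K.inv_mem hk) hg⟩ ?_
    show (k⁻¹ * g) • x = y
    rw [mul_smul, gx, ← ky, inv_smul_smul]
  have hc : (W x).card = (W y).card := by
    refine Finset.card_bij (fun z _ => s • z) (fun z hz => ?_) (fun a _ b _ h => MulAction.injective s h)
      fun z hz => ?_
    · obtain ⟨g, hg, rfl⟩ := (hW _ _).1 hz
      exact (hW _ _).2 ⟨s * g * s⁻¹, hn.conj_mem g hg s, by
        rw [mul_smul, mul_smul, ← hs, inv_smul_smul]⟩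
    · obtain ⟨g, hg, rfl⟩ := (hW _ _).1 hz
      refine ⟨s⁻¹ • g • y, (hW _ _).2 ⟨s⁻¹ * g * s, ?_, by rw [mul_smul, mul_smul, hs]⟩, smul_inv_smul _ _⟩
      simpa using hn.conj_mem g hg s⁻¹
  have h := congrArg Finset.card hu
  rw [Finset.card_union_of_disjoint hd, hc, Finset.card_univ, ← Nat.card_eq_fintype_card] at h
  obtain ⟨k, hk⟩ := hodd
  omega

/-- The order of `PSL(2, p)`. -/
theorem two_mul_card_psl {p : ℕ} [Fact p.Prime] (hp : p ≠ 2) :
    2 * Nat.card (Matrix.ProjectiveSpecialLinearGroup (Fin 2) (ZMod p)) = p * ((p - 1) * (p + 1)) := by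
  have h := Classical.SmallIso.natCard_pslTwo (ZMod p)
  rw [Classical.GL2.natCard_SL_two, ZMod.card] at h
  have hp' : p.Prime := Fact.out
  have hg : Nat.gcd 2 (p - 1) = 2 :=
    Nat.gcd_eq_left (Nat.dvd_of_mod_eq_zero (by have := hp'.eq_two_or_odd; omega))
  rwa [hg] at h

end Cfsg.Agent.Perm.PrimeTwins

namespace Cfsg.Agent.Perm.PrimeTwins

open MulAction
open scoped MatrixGroups

set_option maxHeartbeats 1000000 in
theorem mathieu {X : Type*} [Group X] [Finite X] {Ω : Type*} [MulAction X Ω] [FaithfulSMul X Ω]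
    [Fintype Ω] [DecidableEq Ω] (p : ℕ) [Fact p.Prime] (hp7 : 7 < p) (hΩ : Fintype.card Ω = p + 1)
    (heven : ∀ x : X, Equiv.Perm.sign (MulAction.toPerm x : Equiv.Perm Ω) = 1) (L : Subgroup X)
    (eL : ↥L ≃* Matrix.ProjectiveSpecialLinearGroup (Fin 2) (ZMod p))
    (hLt : IsMultiplyPretransitive ↥L Ω 2) (hLX : L ≠ ⊤) :
    IsMultiplyPretransitive X Ω 4 := by
  classical
  have hpp : p.Prime := Fact.out
  have hp2 : p ≠ 2 := by omega
  obtain ⟨q, hq⟩ : ∃ q, p = 2 * q + 1 := ⟨p / 2, by have := hpp.eq_two_or_odd; omega⟩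
  have hcL : Nat.card L = (p + 1) * (p * q) := by
    have h := two_mul_card_psl hp2
    rw [← Nat.card_congr eL.toEquiv, show p - 1 = 2 * q by omega] at h
    have h' : p * (2 * q * (p + 1)) = 2 * ((p + 1) * (p * q)) := by ring
    omega
  haveI hX2 : IsMultiplyPretransitive X Ω 2 := by
    refine ⟨fun d d' => ?_⟩
    obtain ⟨g, hg⟩ := hLt.exists_smul_eq d d'
    exact ⟨g, hg⟩
  haveI hX1 : IsPretransitive X Ω := MulAction.isPretransitive_of_is_two_pretransitive
  haveI hL1 : IsPretransitive L Ω := MulAction.isPretransitive_of_is_two_pretransitive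
  obtain ⟨a⟩ : Nonempty Ω := Fintype.card_pos_iff.1 (by omega)
  set G := stabilizer X a with hG
  have hm : ∀ z : SubMulAction.ofStabilizer X a, (z : Ω) ≠ a := fun z =>
    (SubMulAction.mem_ofStabilizer_iff _ _).1 z.2
  have hΩ' : Nat.card (SubMulAction.ofStabilizer X a) = p := by
    rw [SubMulAction.nat_card_ofStabilizer_eq X a, Nat.card_eq_fintype_card, hΩ, Nat.add_sub_cancel]
  haveI : FaithfulSMul G (SubMulAction.ofStabilizer X a) := ⟨fun {g g'} h => by
    refine Subtype.ext (eq_of_smul_eq_smul fun z : Ω => ?_)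
    by_cases hz : z = a
    · subst hz
      rw [mem_stabilizer_iff.1 g.2, mem_stabilizer_iff.1 g'.2]
    · exact congrArg Subtype.val (h ⟨z, (SubMulAction.mem_ofStabilizer_iff _ _).2 hz⟩)⟩
  haveI hGt : IsPretransitive G (SubMulAction.ofStabilizer X a) := by
    rw [← MulAction.is_one_pretransitive_iff]
    exact SubMulAction.ofStabilizer.isMultiplyPretransitive.1 hX2
  -- the stabilizer in `L`
  set K : Subgroup G := L.subgroupOf G with hK
  let eK : K ≃ stabilizer L a :=
    { toFun := fun g => ⟨⟨((g : G) : X), Subgroup.mem_subgroupOf.1 g.2⟩, (g : G).2⟩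
      invFun := fun g => ⟨⟨((g : L) : X), g.2⟩, Subgroup.mem_subgroupOf.2 (g : L).2⟩
      left_inv := fun g => rfl
      right_inv := fun g => rfl }
  have hcK : Nat.card K = p * q := by
    have h := (stabilizer L a).card_mul_index
    rw [index_stabilizer_of_transitive, Nat.card_eq_fintype_card (α := Ω), hΩ, hcL, mul_comm (p + 1)] at h
    rw [Nat.card_congr eK]
    exact Nat.eq_of_mul_eq_mul_right (by omega) h
  obtain ⟨S⟩ : Nonempty (Sylow p K) := inferInstance
  have hfact : (p * q).factorization p = 1 := by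
    rw [Nat.factorization_mul hpp.ne_zero (by omega), Finsupp.add_apply, hpp.factorization_self,
      Nat.factorization_eq_zero_of_not_dvd fun h => by have := Nat.le_of_dvd (by omega) h; omega]
  have hScard : Nat.card (S : Subgroup K) = p := by
    rw [Sylow.card_eq_multiplicity, hcK, hfact, pow_one]
  have hSn : (S : Subgroup K).Normal := by
    have h1 : Nat.card (Sylow p K) ∣ q := by
      have h2 := S.card_dvd_index
      have h3 := (S : Subgroup K).card_mul_index
      rw [hScard, hcK] at h3
      rwa [Nat.eq_of_mul_eq_mul_left hpp.pos h3] at h2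
    have h4 : Nat.card (Sylow p K) = 1 :=
      ((card_sylow_modEq_one p K).eq_of_lt_of_lt
        (lt_of_le_of_lt (Nat.le_of_dvd (by omega) h1) (by omega)) hpp.one_lt)
    haveI : Subsingleton (Sylow p K) := (Nat.card_eq_one_iff_unique.1 h4).1
    exact Sylow.normal_of_subsingleton S
  set P : Subgroup G := (S : Subgroup K).map K.subtype with hP
  have hPcard : Nat.card P = p := by
    rw [hP, Subgroup.card_map_of_injective K.subtype_injective, hScard]
  have hKN : K ≤ Subgroup.normalizer (P : Set G) := by
    intro k hk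
    have hconj : ∀ u : K, ∀ x ∈ P, (u : G) * x * (u : G)⁻¹ ∈ P := by
      rintro u _ ⟨x, hx, rfl⟩
      exact ⟨u * x * u⁻¹, hSn.conj_mem x hx u, by simp⟩
    rw [Subgroup.mem_normalizer_iff]
    refine fun x => ⟨fun hx => hconj ⟨k, hk⟩ x hx, fun hx => ?_⟩
    have h := hconj ⟨k⁻¹, K.inv_mem hk⟩ _ hx
    simpa [mul_assoc] using h
  -- the Sylow normalizer is half of the full one
  obtain ⟨b⟩ : Nonempty (SubMulAction.ofStabilizer X a) :=
    (Nat.card_pos_iff.1 (by rw [hΩ']; omega)).1
  have hevenG : ∀ g : G, Equiv.Perm.sign (MulAction.toPerm g : Equiv.Perm (SubMulAction.ofStabilizer X a)) = 1 := by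
    intro g
    have hsub : (MulAction.toPerm g : Equiv.Perm (SubMulAction.ofStabilizer X a)) =
        (MulAction.toPerm (g : X) : Equiv.Perm Ω).subtypePerm (p := fun z => z ∈ SubMulAction.ofStabilizer X a)
          (fun z => by
            rw [SubMulAction.mem_ofStabilizer_iff, SubMulAction.mem_ofStabilizer_iff]
            refine not_congr ⟨fun h => MulAction.injective (g : X) (h.trans (mem_stabilizer_iff.1 g.2).symm),
              fun h => by rw [h]; exact g.2⟩) := by
      ext z; rfl
    rw [hsub, Equiv.Perm.sign_subtypePerm, heven]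
    intro z hz
    rw [SubMulAction.mem_ofStabilizer_iff]
    rintro rfl
    exact hz g.2
  have hNb : ∀ b : SubMulAction.ofStabilizer X a, Nat.card ↥(Subgroup.normalizer (P : Set G) ⊓ stabilizer G b) = q := by
    intro b
    have hne := normalizer_stab_ne_full hp2 hΩ' hPcard b hevenG
    have hdvd : Nat.card ↥(Subgroup.normalizer (P : Set G) ⊓ stabilizer G b) ∣ p - 1 := by
      rw [← (cyclic_mulAut hPcard).2]
      exact Subgroup.card_dvd_of_injective _ (conjHom_injective hΩ' hPcard b)
    have hge : p * q ≤ p * Nat.card ↥(Subgroup.normalizer (P : Set G) ⊓ stabilizer G b) := by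
      rw [← card_normalizer hΩ' hPcard b, ← hcK]
      exact Subgroup.card_le_of_le hKN
    have hge' := Nat.le_of_mul_le_mul_left hge hpp.pos
    obtain ⟨k, hk⟩ := hdvd
    rcases k with _ | _ | k
    · omega
    · omega
    · have : Nat.card ↥(Subgroup.normalizer (P : Set G) ⊓ stabilizer G b) * 2 ≤ p - 1 :=
        hk ▸ Nat.mul_le_mul_left _ (by omega)
      omega
  have hNcard : Nat.card (Subgroup.normalizer (P : Set G)) = p * q := by
    rw [card_normalizer hΩ' hPcard b, hNb b]
  have hKNeq : K = Subgroup.normalizer (P : Set G) :=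
    Subgroup.eq_of_le_of_card_ge hKN (by rw [hNcard, hcK])
  -- `G` is insoluble
  have hins : ¬ Group.IsSolvable G := by
    intro hsol
    obtain ⟨M, hMn, -, hMne, hMmin⟩ :=
      Hall.exists_minimal_normal (⊤ : Subgroup G) fun hbot => by
        have h := Subgroup.card_le_of_le (le_top : K ≤ (⊤ : Subgroup G))
        rw [hbot, Subgroup.card_bot, hcK] at h
        have := Nat.mul_le_mul hpp.one_lt.le (show 1 ≤ q by omega)
        nlinarith
    haveI := hMn
    haveI : Nonempty (SubMulAction.ofStabilizer X a) := ⟨b⟩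
    obtain ⟨hMt, -, r, k, hr, hk, hqk, hMc⟩ := Cfsg.Agent.S0547.result
      (IsPreprimitive.of_prime_card (by rw [hΩ']; exact hpp)) M hMne hMmin
    rw [← hqk, hΩ'] at hMc
    have hPS : ∀ Q : Subgroup G, Nat.card Q = p → ∃ T : Sylow p G, (T : Subgroup G) = Q := by
      intro Q hQ
      obtain ⟨T, hT⟩ := (IsPGroup.of_card (G := Q) (n := 1) (by rw [hQ, pow_one])).exists_le_sylow
      refine ⟨T, (Subgroup.eq_of_le_of_card_ge hT ?_).symm⟩
      rw [hQ]
      obtain ⟨n, hn⟩ := IsPGroup.iff_card.1 T.isPGroup'
      have hd : p ^ n ∣ p.factorial := by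
        have h := (Subgroup.card_subgroup_dvd_card (T : Subgroup G)).trans
          (Subgroup.card_dvd_of_injective (MulAction.toPermHom G (SubMulAction.ofStabilizer X a))
            MulAction.toPerm_injective)
        rwa [Nat.card_perm, hΩ', hn] at h
      rw [hn]
      rcases Nat.lt_or_ge n 2 with h | h
      · exact (Nat.pow_le_pow_right hpp.pos (by omega : n ≤ 1)).trans (pow_one p).le
      · exfalso
        have h2 : p ^ 2 ∣ p.factorial := (pow_dvd_pow p h).trans hd
        rw [pow_two] at h2
        nth_rewrite 3 [show p = (p - 1) + 1 by omega] at h2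
        rw [Nat.factorial_succ, show p - 1 + 1 = p by omega] at h2
        have h3 := Nat.dvd_of_mul_dvd_mul_left hpp.pos h2
        rw [hpp.dvd_factorial] at h3
        omega
    obtain ⟨T, hT⟩ := hPS P hPcard
    obtain ⟨T', hT'⟩ := hPS M hMc
    haveI : (T' : Subgroup G).Normal := hT' ▸ hMn
    haveI : Subsingleton (Sylow p G) := by
      letI := Sylow.unique_of_normal T' inferInstance
      infer_instance
    have hPM : P = M := by rw [← hT, ← hT', Subsingleton.elim T T']
    haveI : P.Normal := hPM ▸ hMn
    have htop : K = ⊤ := by rw [hKNeq, Subgroup.normalizer_eq_top_iff]; infer_instance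
    apply hLX
    rw [Subgroup.eq_top_iff']
    intro x
    obtain ⟨l, hl⟩ := hL1.exists_smul_eq a (x • a)
    have hmem : (l : X)⁻¹ * x ∈ G := by
      rw [hG, mem_stabilizer_iff, mul_smul, inv_smul_eq_iff]
      exact hl.symm
    have h' : (⟨(l : X)⁻¹ * x, hmem⟩ : G) ∈ K := htop ▸ Subgroup.mem_top _
    have h'' := L.mul_mem l.2 (Subgroup.mem_subgroupOf.1 h')
    simpa using h''
  -- the half normalizer of a Sylow subgroup
  obtain ⟨T, hT⟩ : ∃ T : Sylow p G, (T : Subgroup G) = P := by
    obtain ⟨T, hT⟩ := (IsPGroup.of_card (G := P) (n := 1) (by rw [hPcard, pow_one])).exists_le_sylow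
    refine ⟨T, (Subgroup.eq_of_le_of_card_ge hT ?_).symm⟩
    rw [hPcard]
    obtain ⟨n, hn⟩ := IsPGroup.iff_card.1 T.isPGroup'
    have hd : p ^ n ∣ p.factorial := by
      have h := (Subgroup.card_subgroup_dvd_card (T : Subgroup G)).trans
        (Subgroup.card_dvd_of_injective (MulAction.toPermHom G (SubMulAction.ofStabilizer X a))
          MulAction.toPerm_injective)
      rwa [Nat.card_perm, hΩ', hn] at h
    have hfz := (Nat.Prime.pow_dvd_iff_le_factorization hpp (Nat.factorial_ne_zero p)).1 hd
    have h1 : p.factorial.factorization p = 1 := by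
      nth_rewrite 1 [show p = (p - 1) + 1 by omega]
      rw [Nat.factorial_succ, show p - 1 + 1 = p by omega,
        Nat.factorization_mul hpp.ne_zero (Nat.factorial_ne_zero _), Finsupp.add_apply,
        hpp.factorization_self, Nat.factorization_eq_zero_of_not_dvd fun h => by
          rw [hpp.dvd_factorial] at h; omega]
    rw [hn]
    exact (Nat.pow_le_pow_right hpp.pos (h1 ▸ hfz)).trans (pow_one p).le
  have hN : 2 * Nat.card (Subgroup.normalizer ((T : Subgroup G) : Set G)) = p * (p - 1) := by
    rw [hT, hNcard, show p - 1 = 2 * q by omega]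
    ring
  -- triple transitivity of the point stabilizer
  have h3 : IsMultiplyPretransitive G (SubMulAction.ofStabilizer X a) 3 := by
    rcases (by have := hpp.eq_two_or_odd; omega : p % 4 = 1 ∨ p % 4 = 3) with h | h
    · obtain ⟨H, e, T', he, hHt, hHins, hHN⟩ :=
        exists_image (p := p) hGt hins T hN
      haveI := hHt
      refine isMultiplyPretransitive_of_equiv e he
        (Cfsg.Agent.S0676.result (by rw [← Nat.card_eq_fintype_card, hΩ']) H hHins T' ?_)
      obtain ⟨k, hk⟩ : ∃ k, q = 2 * k := ⟨q / 2, by omega⟩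
      refine even_iff_two_dvd.2 ⟨p * k, ?_⟩
      rw [show p - 1 = 2 * q by omega, hk] at hHN
      refine Nat.eq_of_mul_eq_mul_left two_pos (hHN.trans ?_)
      ring
    · have hqodd : q % 2 = 1 := by omega
      obtain ⟨C⟩ := Cfsg.Agent.Perm.HalfNormalizer.exists_coord hpp hΩ' hGt hins T hN
      haveI hG2 : IsMultiplyPretransitive G (SubMulAction.ofStabilizer X a) 2 :=
        MulAction.is_two_pretransitive_iff.2 fun {u v u' v'} huv huv' => C.two u v u' v' huv huv'
      -- any two points
      have key : ∀ b c : SubMulAction.ofStabilizer X a, b ≠ c → ∀ x y, x ≠ b → x ≠ c → y ≠ b → y ≠ c →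
          ∃ g : G, g • b = b ∧ g • c = c ∧ g • x = y := by
        intro b c hbc
        -- the setwise stabilizer of the two points
        let H₂ : Subgroup X :=
          { carrier := {g | (g • a = a ∧ g • (b : Ω) = b) ∨ (g • a = (b : Ω) ∧ g • (b : Ω) = a)}
            one_mem' := Or.inl ⟨one_smul _ _, one_smul _ _⟩
            mul_mem' := by
              rintro g h hg hh
              rcases hg with ⟨g1, g2⟩ | ⟨g1, g2⟩ <;> rcases hh with ⟨h1, h2⟩ | ⟨h1, h2⟩ <;>
                simp [mul_smul, g1, g2, h1, h2]
            inv_mem' := by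
              rintro g hg
              rcases hg with ⟨g1, g2⟩ | ⟨g1, g2⟩
              · exact Or.inl ⟨inv_smul_eq_iff.2 g1.symm, inv_smul_eq_iff.2 g2.symm⟩
              · exact Or.inr ⟨inv_smul_eq_iff.2 g2.symm, inv_smul_eq_iff.2 g1.symm⟩ }
        let B : SubMulAction H₂ Ω :=
          { carrier := {z | z ≠ a ∧ z ≠ (b : Ω)}
            smul_mem' := by
              rintro ⟨g, hg⟩ z ⟨hza, hzb⟩
              show g • z ≠ a ∧ g • z ≠ (b : Ω)
              rcases hg with ⟨g1, g2⟩ | ⟨g1, g2⟩
              · exact ⟨fun h => hza (MulAction.injective g (h.trans g1.symm)),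
                  fun h => hzb (MulAction.injective g (h.trans g2.symm))⟩
              · exact ⟨fun h => hzb (MulAction.injective g (h.trans g2.symm)),
                  fun h => hza (MulAction.injective g (h.trans g1.symm))⟩ }
        have hBcard : Nat.card B = p - 1 := by
          rw [show Nat.card B = Nat.card {z : Ω // z ≠ a ∧ z ≠ (b : Ω)} from rfl,
            Nat.card_eq_fintype_card, Fintype.card_subtype,
            show (Finset.univ.filter fun z : Ω => z ≠ a ∧ z ≠ (b : Ω)) = Finset.univ \ {a, (b : Ω)} by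
              ext; simp,
            Finset.card_univ_sdiff, Finset.card_pair (hm b).symm, hΩ]
          omega
        haveI : FaithfulSMul H₂ B := ⟨fun {g g'} h => by
          refine Subtype.ext ?_
          have hfix : ∀ z, z ≠ a → z ≠ (b : Ω) → ((g' : X)⁻¹ * g) • z = z := fun z hza hzb => by
            rw [mul_smul, inv_smul_eq_iff]
            exact congrArg Subtype.val (h ⟨z, hza, hzb⟩)
          rcases (H₂.mul_mem (H₂.inv_mem g'.2) g.2 : (g' : X)⁻¹ * g ∈ H₂) with ⟨g1, g2⟩ | ⟨g1, g2⟩
          · refine (inv_mul_eq_one.1 (eq_of_smul_eq_smul (M := X) fun z : Ω => ?_)).symm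
            rw [one_smul]
            by_cases hza : z = a
            · rw [hza, g1]
            by_cases hzb : z = (b : Ω)
            · rw [hzb, g2]
            exact hfix z hza hzb
          · exfalso
            have hs : (MulAction.toPerm ((g' : X)⁻¹ * g) : Equiv.Perm Ω) = Equiv.swap a b := by
              ext z
              show ((g' : X)⁻¹ * g) • z = _
              by_cases hza : z = a
              · rw [hza, g1, Equiv.swap_apply_left]
              by_cases hzb : z = (b : Ω)
              · rw [hzb, g2, Equiv.swap_apply_right]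
              rw [hfix z hza hzb, Equiv.swap_apply_of_ne_of_ne hza hzb]
            have := heven ((g' : X)⁻¹ * g)
            rw [hs, Equiv.Perm.sign_swap (hm b).symm] at this
            exact absurd this (by decide)⟩
        -- the two-point stabilizer is primitive
        haveI := Cfsg.Agent.S3612.result p hpp hΩ' hGt hins T hN hp7 b
        let φ : stabilizer G b → H₂ := fun g =>
          ⟨((g : G) : X), Or.inl ⟨(g : G).2, congrArg Subtype.val (g.2 : (g : G) • b = b)⟩⟩
        let f : SubMulAction.ofStabilizer G b →ₑ[φ] B :=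
          { toFun := fun z => ⟨((z : SubMulAction.ofStabilizer X a) : Ω), hm z,
              fun h => (SubMulAction.mem_ofStabilizer_iff _ _).1 z.2 (Subtype.ext h)⟩
            map_smul' := fun g z => rfl }
        have hf : Function.Surjective f := fun z =>
          ⟨⟨⟨z.1, (SubMulAction.mem_ofStabilizer_iff _ _).2 z.2.1⟩,
            (SubMulAction.mem_ofStabilizer_iff _ _).2 fun h => z.2.2 (congrArg Subtype.val h)⟩, rfl⟩
        haveI hprim : IsPreprimitive H₂ B := IsPreprimitive.of_surjective (f := f) hf
        -- the regular dihedral subgroup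
        let D : Subgroup H₂ := L.subgroupOf H₂
        let C₀ : Subgroup D :=
          { carrier := {g | ((g : H₂) : X) • a = a}
            one_mem' := one_smul _ _
            mul_mem' := fun {g h} hg hh => by
              show (((g : H₂) : X) * ((h : H₂) : X)) • a = a
              rw [mul_smul, show ((h : H₂) : X) • a = a from hh]; exact hg
            inv_mem' := fun {g} hg => inv_smul_eq_iff.2 (Eq.symm hg) }
        have hC₀b : ∀ g : D, g ∈ C₀ → ((g : H₂) : X) • (b : Ω) = b := fun g hg =>
          (g : H₂).2.elim And.right fun h => absurd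
            ((show ((g : H₂) : X) • a = a from hg).symm.trans h.1) (hm b).symm
        -- the elements of `C₀` lie in the affine group
        let ψ : C₀ →* ↥(Subgroup.normalizer (P : Set G) ⊓ stabilizer G b) :=
          { toFun := fun g => ⟨⟨(((g : D) : H₂) : X), g.2⟩,
              hKN (Subgroup.mem_subgroupOf.2 (Subgroup.mem_subgroupOf.1 (g : D).2)),
              Subtype.ext (hC₀b g g.2)⟩
            map_one' := rfl
            map_mul' := fun g h => rfl }
        have hψ : Function.Injective ψ := fun g h e =>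
          Subtype.ext (Subtype.ext (Subtype.ext (congrArg (fun u => ((u.1 : G) : X)) e)))
        have hψs : Function.Surjective ψ := by
          rintro ⟨g, hgN, hgb⟩
          have hgK : g ∈ K := by rw [hKNeq]; exact hgN
          have hgL : (g : X) ∈ L := Subgroup.mem_subgroupOf.1 hgK
          exact ⟨⟨⟨⟨(g : X), Or.inl ⟨g.2, congrArg Subtype.val (hgb : g • b = b)⟩⟩,
            Subgroup.mem_subgroupOf.2 hgL⟩, g.2⟩, rfl⟩
        have hC₀card : Nat.card C₀ = q := by
          rw [Nat.card_congr (Equiv.ofBijective ψ ⟨hψ, hψs⟩), hNb b]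
        obtain ⟨s, s1, s2⟩ := (MulAction.is_two_pretransitive_iff.1 hLt) (hm b).symm (hm b)
        replace s1 : (s : X) • a = (b : Ω) := s1
        replace s2 : (s : X) • (b : Ω) = a := s2
        have hsH : (s : X) ∈ H₂ := Or.inr ⟨s1, s2⟩
        have hC₀i : C₀.index = 2 := by
          rw [Subgroup.index_eq_two_iff]
          refine ⟨⟨⟨(s : X), hsH⟩, Subgroup.mem_subgroupOf.2 s.2⟩, fun g => ?_⟩
          show Xor ((((g : H₂) : X) * (s : X)) • a = a) (((g : H₂) : X) • a = a)
          rw [mul_smul, show (s : X) • a = (b : Ω) from s1]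
          rcases (g : H₂).2 with ⟨g1, g2⟩ | ⟨g1, g2⟩
          · exact Or.inr ⟨g1, by rw [g2]; exact hm b⟩
          · exact Or.inl ⟨g2, by rw [g1]; exact hm b⟩
        have hDcard : Nat.card D = 2 * q := by
          rw [← C₀.card_mul_index, hC₀i, hC₀card, mul_comm]
        -- point stabilizers in `L` have odd order
        have hoddfix : ∀ l : X, l ∈ L → l * l = 1 → ∀ z : Ω, l • z = z → l = 1 := by
          intro l hl hll z hz
          have hcard : Nat.card (stabilizer L z) = p * q := by
            have h := (stabilizer L z).card_mul_index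
            rw [index_stabilizer_of_transitive, Nat.card_eq_fintype_card (α := Ω), hΩ, hcL, mul_comm (p + 1)] at h
            exact Nat.eq_of_mul_eq_mul_right (by omega) h
          let l' : stabilizer L z := ⟨⟨l, hl⟩, hz⟩
          have hmul : l' * l' = 1 := Subtype.ext (Subtype.ext hll)
          obtain ⟨k, hk⟩ : Odd (p * q) := (hpp.odd_of_ne_two hp2).mul (Nat.odd_iff.2 hqodd)
          have hpow : l' ^ (2 * k + 1) = 1 := by rw [← hk, ← hcard]; exact pow_card_eq_one'
          rw [pow_succ, pow_mul, pow_two, hmul, one_pow, one_mul] at hpow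
          exact congrArg (fun u : stabilizer L z => ((u : L) : X)) hpow
        have hfree : ∀ z : B, stabilizer D z = ⊥ := by
          intro z
          rw [eq_bot_iff]
          intro g hg
          have hgz : ((g : H₂) : X) • (z : Ω) = z := congrArg Subtype.val (mem_stabilizer_iff.1 hg)
          have hsq : (g * g : D) = 1 := by
            have hmem : g * g ∈ C₀ := by
              show (((g : H₂) : X) * ((g : H₂) : X)) • a = a
              rw [mul_smul]
              rcases (g : H₂).2 with ⟨g1, g2⟩ | ⟨g1, g2⟩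
              · rw [g1, g1]
              · rw [g1, g2]
            have hψ1 : ((ψ ⟨g * g, hmem⟩).1 : G) = 1 := by
              refine eq_one_of_fix hΩ' hPcard (ψ ⟨g * g, hmem⟩).2.1
                (b := b) (c := ⟨(z : Ω), (SubMulAction.mem_ofStabilizer_iff _ _).2 z.2.1⟩)
                (ψ ⟨g * g, hmem⟩).2.2 ?_ (fun h => z.2.2 (congrArg Subtype.val h).symm)
              refine Subtype.ext ?_
              show (((g : H₂) : X) * ((g : H₂) : X)) • (z : Ω) = z
              rw [mul_smul, hgz, hgz]
            exact Subtype.ext (Subtype.ext (congrArg (fun u : G => (u : X)) hψ1))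
          rw [Subgroup.mem_bot]
          refine Subtype.ext (Subtype.ext ?_)
          exact hoddfix _ (Subgroup.mem_subgroupOf.1 g.2)
            (congrArg (fun u : D => ((u : H₂) : X)) hsq) z hgz
        haveI hDt : IsPretransitive D B := by
          refine ⟨fun u v => ?_⟩
          have hbij : Function.Bijective fun g : D => g • u := by
            refine (Nat.bijective_iff_injective_and_card _).2 ⟨fun g h e => ?_, ?_⟩
            · have : h⁻¹ * g ∈ stabilizer D u := by
                rw [mem_stabilizer_iff, mul_smul, inv_smul_eq_iff]; exact e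
              rw [hfree u, Subgroup.mem_bot, inv_mul_eq_one] at this
              exact this.symm
            · rw [hDcard, hBcard]; omega
          exact hbij.2 v
        -- it is dihedral
        obtain ⟨hcyc, -⟩ := cyclic_mulAut hPcard
        haveI := hcyc
        haveI : IsCyclic C₀ := isCyclic_of_injective ((conjHom P b).comp ψ)
          ((conjHom_injective hΩ' hPcard b).comp hψ)
        obtain ⟨c₀, hc₀⟩ := IsCyclic.exists_ofOrder_eq_natCard (α := C₀)
        rw [hC₀card, ← Subgroup.orderOf_coe] at hc₀
        haveI : Fact (Nat.Prime 2) := ⟨Nat.prime_two⟩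
        obtain ⟨w, hw⟩ := exists_prime_orderOf_dvd_card' (G := D) 2 (hDcard ▸ dvd_mul_right 2 q)
        have hww : w * w = 1 := by rw [← pow_two, ← hw, pow_orderOf_eq_one]
        have hwC : w ∉ C₀ := by
          intro h
          have h2 := Subgroup.orderOf_dvd_natCard C₀ h
          rw [hw, hC₀card] at h2
          omega
        have hfixc : ∀ u ∈ C₀, Commute w u → u = 1 := by
          intro u hu huw
          let ι : D →* L :=
            { toFun := fun g => ⟨((g : H₂) : X), Subgroup.mem_subgroupOf.1 g.2⟩
              map_one' := rfl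
              map_mul' := fun g h => rfl }
          have hι : Function.Injective (eL.toMonoidHom.comp ι) := eL.injective.comp fun g h e =>
            Subtype.ext (Subtype.ext (congrArg (fun v : L => (v : X)) e))
          refine hι ?_
          rw [map_one]
          refine psl_commute h (w := eL.toMonoidHom.comp ι w) ?_ (huw.map _) ?_
          · rw [orderOf_injective _ hι, hw]
          · rw [show (p - 1) / 2 = q by omega, ← map_pow, ← hC₀card]
            rw [show u = ((⟨u, hu⟩ : C₀) : D) from rfl, ← SubmonoidClass.coe_pow, pow_card_eq_one',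
              OneMemClass.coe_one, map_one]
        have hinvert : w * (c₀ : D) * w⁻¹ = (c₀ : D)⁻¹ := by
          haveI hn : C₀.Normal := Subgroup.normal_of_index_eq_two hC₀i
          have hmem : w * (c₀ : D) * w⁻¹ ∈ C₀ := hn.conj_mem _ c₀.2 w
          have hcomm : w * (c₀ : D) * w⁻¹ * (c₀ : D) = (c₀ : D) * (w * (c₀ : D) * w⁻¹) := by
            letI := IsCyclic.commGroup (α := C₀)
            exact congrArg Subtype.val (mul_comm (⟨_, hmem⟩ : C₀) c₀)
          have h1 : w * (c₀ : D) * w⁻¹ * (c₀ : D) = 1 := by
            refine hfixc _ (C₀.mul_mem hmem c₀.2) ?_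
            show w * (w * (c₀ : D) * w⁻¹ * (c₀ : D)) = w * (c₀ : D) * w⁻¹ * (c₀ : D) * w
            have hwi : w⁻¹ = w := inv_eq_of_mul_eq_one_right hww
            rw [hwi] at hcomm ⊢
            calc w * (w * (c₀ : D) * w * (c₀ : D)) = (w * w) * ((c₀ : D) * w * (c₀ : D)) := by
                  simp only [mul_assoc]
              _ = ((c₀ : D) * (w * (c₀ : D) * w)) * w := by
                  rw [hww, one_mul]; simp only [mul_assoc, hww, mul_one]
              _ = _ := by rw [hcomm]
          exact eq_inv_of_mul_eq_one_left h1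
        obtain ⟨fD, hfD, -, -⟩ := Classical.CyclicExt.exists_dihedral_hom (n := q) (c₀ : D) w hc₀ hww
          hinvert (fun hmem => hwC ((Subgroup.zpowers_le.2 c₀.2) hmem))
        haveI : NeZero q := ⟨by omega⟩
        have hbij : Function.Bijective fD := (Nat.bijective_iff_injective_and_card _).2
          ⟨hfD, by rw [hDcard, DihedralGroup.nat_card]⟩
        haveI hH2 : IsMultiplyPretransitive H₂ B 2 := Cfsg.Agent.S3572.result hprim D q
          ⟨(MulEquiv.ofBijective fD hbij).symm⟩ ⟨hDt, hfree⟩
        -- stabilize a third point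
        intro x y hxb hxc hyb hyc
        have hmemB : ∀ z : SubMulAction.ofStabilizer X a, z ≠ b → (z : Ω) ∈ B := fun z hz =>
          ⟨hm z, fun h => hz (Subtype.ext h)⟩
        let c' : B := ⟨c, hmemB c hbc.symm⟩
        let S := stabilizer H₂ c'
        haveI hSt : IsPretransitive S (SubMulAction.ofStabilizer H₂ c') := by
          haveI : IsPretransitive H₂ B := MulAction.isPretransitive_of_is_two_pretransitive
          rw [← MulAction.is_one_pretransitive_iff]
          exact SubMulAction.ofStabilizer.isMultiplyPretransitive.1 hH2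
        let K₂ : Subgroup S :=
          { carrier := {g | ((g : H₂) : X) • a = a}
            one_mem' := one_smul _ _
            mul_mem' := fun {g h} hg hh => by
              show (((g : H₂) : X) * ((h : H₂) : X)) • a = a
              rw [mul_smul, show ((h : H₂) : X) • a = a from hh]; exact hg
            inv_mem' := fun {g} hg => inv_smul_eq_iff.2 (Eq.symm hg) }
        have hK₂ : K₂.index = 2 := by
          haveI : IsPretransitive D B := hDt
          obtain ⟨g₀, hg₀, hg₀a⟩ : ∃ g : S, g ∈ (⊤ : Subgroup S) ∧ ((g : H₂) : X) • a = (b : Ω) := by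
            -- move back by an element fixing `a` and `b`
            obtain ⟨g, hg⟩ := C.two b c b ⟨((s : X) • (c : Ω)),
              (SubMulAction.mem_ofStabilizer_iff _ _).2 fun h => hbc
                (Subtype.ext (MulAction.injective (s : X) (h.trans s2.symm))).symm⟩ hbc (fun h => by
                have h' : (b : Ω) = (s : X) • (c : Ω) := congrArg Subtype.val h
                exact hm c (MulAction.injective (s : X) (h'.symm.trans s1.symm)))
            have gb : (g : X) • (b : Ω) = b := congrArg Subtype.val hg.1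
            have gc : (g : X) • (c : Ω) = (s : X) • (c : Ω) := congrArg Subtype.val hg.2
            refine ⟨⟨⟨(g : X)⁻¹ * (s : X), Or.inr ⟨?_, ?_⟩⟩, Subtype.ext ?_⟩, trivial, ?_⟩
            · rw [mul_smul, s1, inv_smul_eq_iff, gb]
            · rw [mul_smul, s2, inv_smul_eq_iff, mem_stabilizer_iff.1 g.2]
            · show ((g : X)⁻¹ * (s : X)) • (c : Ω) = c
              rw [mul_smul, ← gc, inv_smul_smul]
            · show ((g : X)⁻¹ * (s : X)) • a = (b : Ω)
              rw [mul_smul, s1, inv_smul_eq_iff, gb]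
          rw [Subgroup.index_eq_two_iff]
          refine ⟨g₀, fun g => ?_⟩
          show Xor ((((g : H₂) : X) * ((g₀ : H₂) : X)) • a = a) (((g : H₂) : X) • a = a)
          rw [mul_smul, hg₀a]
          rcases (g : H₂).2 with ⟨g1, g2⟩ | ⟨g1, g2⟩
          · exact Or.inr ⟨g1, by rw [g2]; exact hm b⟩
          · exact Or.inl ⟨g2, by rw [g1]; exact hm b⟩
        have hcard' : Nat.card (SubMulAction.ofStabilizer H₂ c') = p - 2 := by
          rw [SubMulAction.nat_card_ofStabilizer_eq H₂ c', hBcard]; omega
        haveI := transitive_of_index_two (β := SubMulAction.ofStabilizer H₂ c')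
          (by rw [hcard']; exact Nat.odd_iff.2 (by omega)) K₂ hK₂
        let x' : SubMulAction.ofStabilizer H₂ c' := ⟨⟨x, hmemB x hxb⟩,
          (SubMulAction.mem_ofStabilizer_iff _ _).2 fun h => hxc (Subtype.ext (congrArg Subtype.val h :))⟩
        let y' : SubMulAction.ofStabilizer H₂ c' := ⟨⟨y, hmemB y hyb⟩,
          (SubMulAction.mem_ofStabilizer_iff _ _).2 fun h => hyc (Subtype.ext (congrArg Subtype.val h :))⟩
        obtain ⟨⟨g, hg⟩, hgxy⟩ := MulAction.exists_smul_eq K₂ x' y'
        refine ⟨⟨((g : H₂) : X), hg⟩, Subtype.ext ?_, Subtype.ext ?_, Subtype.ext ?_⟩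
        · exact (g : H₂).2.elim And.right fun h =>
            absurd ((show ((g : H₂) : X) • a = a from hg).symm.trans h.1) (hm b).symm
        · have hgc : (g : H₂) • c' = c' := g.2
          exact congrArg (fun u : B => (u : Ω)) hgc
        · exact congrArg (fun u : SubMulAction.ofStabilizer H₂ c' => ((u : B) : Ω)) hgxy
      letI := Fintype.ofFinite (SubMulAction.ofStabilizer X a)
      refine Cfsg.Agent.Perm.Basic.isMultiplyPretransitive_of_fixing_pred
        (by rw [← Nat.card_eq_fintype_card, hΩ']; omega) ?_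
      intro t ht x y hx hy
      obtain ⟨u, v, huv, rfl⟩ := Finset.card_eq_two.1 (by omega : t.card = 2)
      simp only [Finset.mem_insert, Finset.mem_singleton, not_or] at hx hy
      obtain ⟨g, gu, gv, gx⟩ := key u v huv x y hx.1 hx.2 hy.1 hy.2
      refine ⟨g, fun z hz => ?_, gx⟩
      simp only [Finset.mem_insert, Finset.mem_singleton] at hz
      rcases hz with rfl | rfl <;> assumption
  exact SubMulAction.ofStabilizer.isMultiplyPretransitive.2 h3

end Cfsg.Agent.Perm.PrimeTwins
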