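import Cfsg.Agent.S0713

/-!
A five-fold transitive group of degree `2 r + 3` or `3 r + 4`, `r ≥ 5` prime, contains the alternating
group: the normalizer of a Sylow `r`-subgroup of the stabilizer of three, respectively four, points
yields an element moving those points only.
-/

set_option autoImplicit false
set_option linter.style.haveILetI false
set_option linter.unusedSectionVars false

namespace Cfsg.Agent.Perm.PrimeTwins

open MulAction
open scoped Pointwise

variable {α : Type*} [Fintype α] [DecidableEq α] {G : Subgroup (Equiv.Perm α)}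

theorem exists_smul_tuple {k : ℕ} (h : IsMultiplyPretransitive G α k) (u v : Fin k → α)
    (hu : Function.Injective u) (hv : Function.Injective v) : ∃ g : G, ∀ i, g • u i = v i := by
  obtain ⟨g, hg⟩ := h.exists_smul_eq ⟨u, hu⟩ ⟨v, hv⟩
  exact ⟨g, fun i => DFunLike.congr_fun hg i⟩

omit [Fintype α] [DecidableEq α] in
theorem injective₃ {a b c : α} (hab : a ≠ b) (hac : a ≠ c) (hbc : b ≠ c) :
    Function.Injective ![a, b, c] :=
  List.nodup_ofFn.1 (by simp [List.ofFn_succ, hab, hac, hbc])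

omit [Fintype α] [DecidableEq α] in
theorem injective₄ {a b c d : α} (hab : a ≠ b) (hac : a ≠ c) (had : a ≠ d) (hbc : b ≠ c) (hbd : b ≠ d)
    (hcd : c ≠ d) : Function.Injective ![a, b, c, d] :=
  List.nodup_ofFn.1 (by simp [List.ofFn_succ, hab, hac, had, hbc, hbd, hcd])

omit [Fintype α] [DecidableEq α] in
theorem injective₅ {a b c d e : α} (hab : a ≠ b) (hac : a ≠ c) (had : a ≠ d) (hae : a ≠ e) (hbc : b ≠ c)
    (hbd : b ≠ d) (hbe : b ≠ e) (hcd : c ≠ d) (hce : c ≠ e) (hde : d ≠ e) :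
    Function.Injective ![a, b, c, d, e] :=
  List.nodup_ofFn.1 (by simp [List.ofFn_succ, hab, hac, had, hae, hbc, hbd, hbe, hcd, hce, hde])

/-- A Sylow subgroup of a pointwise stabilizer, and the elements normalizing it. -/
structure Local (G : Subgroup (Equiv.Perm α)) (t : Finset α) (r : ℕ) where
  /-- the Sylow subgroup -/
  R : Subgroup G
  pgroup : IsPGroup r R
  fix : ∀ x ∈ R, ∀ z ∈ t, x • z = z
  move : ∀ z ∉ t, ∃ x ∈ R, x • z ≠ z
  witt : ∀ g : G, (∀ z ∈ t, g • z ∈ t) →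
    ∃ k : G, (∀ z ∈ t, k • z = g • z) ∧ k ∈ Subgroup.normalizer (R : Set G)

theorem exists_local {t : Finset α} {r : ℕ} [Fact r.Prime]
    (htr : ∀ x y, x ∉ t → y ∉ t → ∃ g : G, (∀ z ∈ t, g • z = z) ∧ g • x = y)
    (hr : r ∣ Fintype.card α - t.card) : Nonempty (Local G t r) := by
  classical
  let K : Subgroup G := fixingSubgroup G (t : Set α)
  have hK : ∀ g : G, g ∈ K ↔ ∀ z ∈ t, g • z = z := fun g => mem_fixingSubgroup_iff G
  obtain ⟨S⟩ : Nonempty (Sylow r K) := inferInstance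
  refine ⟨⟨(S : Subgroup K).map K.subtype, S.isPGroup'.map _, ?_, ?_, ?_⟩⟩
  · rintro _ ⟨x, -, rfl⟩ z hz
    exact (hK _).1 x.2 z hz
  · intro z hz
    by_contra hcon
    push Not at hcon
    have hle : (S : Subgroup K) ≤ stabilizer K z := fun x hx =>
      hcon _ (Subgroup.mem_map_of_mem _ hx)
    refine S.not_dvd_index (dvd_trans ?_ (Subgroup.index_dvd_of_le hle))
    have horb : orbit K z = ((Finset.univ \ t : Finset α) : Set α) := by
      ext w
      simp only [Finset.coe_sdiff, Finset.coe_univ, Set.mem_sdiff, Set.mem_univ, true_and,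
        Finset.mem_coe]
      constructor
      · rintro ⟨g, rfl⟩ hw
        have h : (g : G)⁻¹ • ((g : G) • z) = (g : G) • z := (hK _).1 (K.inv_mem g.2) _ hw
        rw [inv_smul_smul] at h
        apply hz
        rw [h]
        exact hw
      · intro hw
        obtain ⟨g, hg, hgz⟩ := htr z w hz hw
        exact ⟨⟨g, (hK g).2 hg⟩, hgz⟩
    rw [index_stabilizer, horb, Set.ncard_coe_finset, Finset.card_univ_sdiff]
    exact hr
  · intro g hg
    have hgt : t.image (g • ·) = t := Finset.eq_of_subset_of_card_le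
      (Finset.image_subset_iff.2 hg) (by rw [Finset.card_image_of_injective _ (MulAction.injective g)])
    have hgi : ∀ z ∈ t, g⁻¹ • z ∈ t := by
      intro z hz
      rw [← hgt, Finset.mem_image] at hz
      obtain ⟨w, hw, rfl⟩ := hz
      rwa [inv_smul_smul]
    have hconj : ∀ (u : G), (∀ z ∈ t, u • z ∈ t) → ∀ x ∈ K, u⁻¹ * x * u ∈ K := by
      intro u hu x hx
      refine (hK _).2 fun z hz => ?_
      rw [mul_smul, mul_smul, (hK x).1 hx _ (hu z hz), inv_smul_smul]
    let φ : K ≃* K :=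
      { toFun := fun x => ⟨g * x * g⁻¹, by simpa using hconj g⁻¹ hgi x x.2⟩
        invFun := fun x => ⟨g⁻¹ * x * g, hconj g hg x x.2⟩
        left_inv := fun x => Subtype.ext (by simp [mul_assoc])
        right_inv := fun x => Subtype.ext (by simp [mul_assoc])
        map_mul' := fun x y => Subtype.ext (by simp [mul_assoc]) }
    have hs : Function.Surjective φ.toMonoidHom := φ.surjective
    obtain ⟨k, hk⟩ := MulAction.exists_smul_eq K (S.mapSurjective hs) S
    refine ⟨(k : G) * g, fun z hz => by rw [mul_smul, (hK _).1 k.2 _ (hg z hz)], ?_⟩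
    have hmap : ((S : Subgroup K).map K.subtype).map (MulAut.conj ((k : G) * g)).toMonoidHom =
        (S : Subgroup K).map K.subtype := by
      have e1 : (S : Subgroup K) = ((S : Subgroup K).map φ.toMonoidHom).map (MulAut.conj k).toMonoidHom := by
        conv_lhs => rw [← hk, Sylow.coe_subgroup_smul, Subgroup.pointwise_smul_def]
        rfl
      conv_rhs => rw [e1]
      rw [Subgroup.map_map, Subgroup.map_map, Subgroup.map_map]
      congr 1
    rw [Subgroup.mem_normalizer_iff]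
    intro x
    refine ⟨fun hx => hmap ▸ Subgroup.mem_map_of_mem _ hx, fun hx => ?_⟩
    have hx' : (k : G) * g * x * ((k : G) * g)⁻¹ ∈
        ((S : Subgroup K).map K.subtype).map (MulAut.conj ((k : G) * g)).toMonoidHom := hmap.symm ▸ hx
    obtain ⟨y, hy, hyx⟩ := Subgroup.mem_map.1 hx'
    have hyx' : y = x := (MulAut.conj ((k : G) * g)).injective hyx
    rwa [← hyx']

namespace Local

variable {t : Finset α} {r : ℕ} [hrp : Fact r.Prime] (L : Local G t r)

theorem notMem_smul {x : G} (hx : x ∈ L.R) {z : α} (hz : z ∉ t) : x • z ∉ t := fun h => hz <| by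
  have := L.fix x⁻¹ (L.R.inv_mem hx) _ h
  rw [inv_smul_smul] at this
  exact this ▸ h

theorem orbit_subset {z : α} (hz : z ∉ t) :
    orbit L.R z ⊆ ((Finset.univ \ t : Finset α) : Set α) := by
  rintro _ ⟨⟨x, hx⟩, rfl⟩
  have := L.notMem_smul hx hz
  simpa using this

variable (hsmall : Fintype.card α - t.card < r ^ 2)
include hsmall

theorem index_eq {z : α} (hz : z ∉ t) : (stabilizer L.R z).index = r := by
  obtain ⟨n, hn⟩ := IsPGroup.iff_card.1 L.pgroup
  obtain ⟨j, -, hj⟩ := (Nat.dvd_prime_pow hrp.out).1 (hn ▸ (stabilizer L.R z).index_dvd_card)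
  rcases j with _ | _ | j
  · obtain ⟨x, hx, hxz⟩ := L.move z hz
    rw [pow_zero, Subgroup.index_eq_one] at hj
    have hmem : (⟨x, hx⟩ : L.R) ∈ stabilizer L.R z := by rw [hj]; trivial
    exact absurd (mem_stabilizer_iff.1 hmem) hxz
  · rw [hj, pow_one]
  · exfalso
    have h1 : r ^ 2 ≤ (stabilizer L.R z).index := hj ▸ Nat.pow_le_pow_right hrp.out.pos (by omega)
    rw [index_stabilizer] at h1
    have h2 := Set.ncard_le_ncard (L.orbit_subset hz) (Set.toFinite _)
    rw [Set.ncard_coe_finset, Finset.card_univ_sdiff] at h2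
    omega

theorem normal {z : α} (hz : z ∉ t) : (stabilizer L.R z).Normal := by
  refine Subgroup.normal_of_index_eq_minFac_card ?_
  obtain ⟨n, hn⟩ := IsPGroup.iff_card.1 L.pgroup
  rw [L.index_eq hsmall hz, hn]
  rcases n with _ | n
  · have h := (stabilizer L.R z).index_dvd_card
    rw [L.index_eq hsmall hz, hn, pow_zero, Nat.dvd_one] at h
    exact absurd h hrp.out.ne_one
  · rw [hrp.out.pow_minFac (Nat.succ_ne_zero n)]

/-- Whoever fixes a point outside `t` fixes its whole orbit. -/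
theorem fix_orbit {z : α} (hz : z ∉ t) {x u : G} (hx : x ∈ L.R) (hu : u ∈ L.R) (h : x • z = z) :
    x • u • z = u • z := by
  have := (L.normal hsmall hz).conj_mem ⟨x, hx⟩ (mem_stabilizer_iff.2 h) ⟨u⁻¹, L.R.inv_mem hu⟩
  rw [mem_stabilizer_iff] at this
  have h2 : (u⁻¹ * x * u⁻¹⁻¹) • z = z := this
  rw [inv_inv, mul_smul, mul_smul, inv_smul_eq_iff] at h2
  exact h2

theorem pow_fix {z : α} (hz : z ∉ t) {x : G} (hx : x ∈ L.R) : (x ^ r) • z = z := by
  haveI := L.normal hsmall hz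
  have := (stabilizer L.R z).pow_index_mem ⟨x, hx⟩
  rw [L.index_eq hsmall hz, mem_stabilizer_iff] at this
  exact this

theorem pow_eq_one {x : G} (hx : x ∈ L.R) : x ^ r = 1 := by
  refine eq_of_smul_eq_smul fun z : α => ?_
  rw [one_smul]
  by_cases hz : z ∈ t
  · exact L.fix _ (L.R.pow_mem hx r) z hz
  · exact L.pow_fix hsmall hz hx

/-- An element normalizing the Sylow subgroup and preserving an orbit has an exponent there. -/
theorem exponent {z : α} (hz : z ∉ t) {h : G} (hh : h ∈ Subgroup.normalizer (L.R : Set G))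
    (hO : h • z ∈ orbit L.R z) :
    ∃ m : ℕ, ∀ x ∈ L.R, ((x ^ m)⁻¹ * (h * x * h⁻¹)) • z = z := by
  haveI := L.normal hsmall hz
  haveI : IsCyclic (L.R ⧸ stabilizer L.R z) := isCyclic_of_prime_card (p := r)
    (by rw [← Subgroup.index_eq_card, L.index_eq hsmall hz])
  let c : L.R →* L.R :=
    { toFun := fun x => ⟨h * x * h⁻¹, (Subgroup.mem_normalizer_iff.1 hh _).1 x.2⟩
      map_one' := Subtype.ext (by simp)
      map_mul' := fun x y => Subtype.ext (by simp [mul_assoc]) }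
  have hc : stabilizer L.R z ≤ (stabilizer L.R z).comap c := by
    intro x hx
    rw [Subgroup.mem_comap, mem_stabilizer_iff]
    show (h * x * h⁻¹) • z = z
    obtain ⟨⟨u, hu⟩, huz : u • z = h • z⟩ := hO
    have hfix : ((x : G)) • z = z := hx
    have h1 : (h * x * h⁻¹) • (u • z) = u • z := by
      rw [huz, mul_smul, mul_smul, inv_smul_smul, hfix]
    have h2 := L.fix_orbit hsmall (L.notMem_smul hu hz) ((Subgroup.mem_normalizer_iff.1 hh _).1 x.2)
      (L.R.inv_mem hu) h1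
    rwa [inv_smul_smul] at h2
  obtain ⟨m, hm⟩ := MonoidHom.map_cyclic (QuotientGroup.map _ _ c hc)
  obtain ⟨k, hk⟩ : ∃ k : ℕ, (k : ℤ) ≡ m [ZMOD (r : ℤ)] :=
    ⟨(m % (r : ℤ)).toNat, by
      rw [Int.toNat_of_nonneg (Int.emod_nonneg _ (by exact_mod_cast hrp.out.ne_zero))]
      exact Int.mod_modEq _ _⟩
  refine ⟨k, fun x hx => ?_⟩
  have h1 := hm (QuotientGroup.mk ⟨x, hx⟩)
  rw [QuotientGroup.map_mk] at h1
  have h2 : (QuotientGroup.mk ⟨x, hx⟩ : L.R ⧸ stabilizer L.R z) ^ m =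
      QuotientGroup.mk (⟨x, hx⟩ ^ k) := by
    rw [QuotientGroup.mk_pow, ← zpow_natCast, zpow_eq_zpow_iff_modEq]
    have ho : orderOf (QuotientGroup.mk ⟨x, hx⟩ : L.R ⧸ stabilizer L.R z) ∣ r := by
      have := orderOf_dvd_natCard (QuotientGroup.mk ⟨x, hx⟩ : L.R ⧸ stabilizer L.R z)
      rwa [← Subgroup.index_eq_card, L.index_eq hsmall hz] at this
    exact hk.symm.of_dvd (Int.natCast_dvd_natCast.2 ho)
  rw [h2, eq_comm, QuotientGroup.eq] at h1
  exact mem_stabilizer_iff.1 h1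

/-- The element preserves every orbit. -/
def Preserves (h : G) : Prop :=
  h ∈ Subgroup.normalizer (L.R : Set G) ∧ ∀ z ∉ t, h • z ∈ orbit L.R z

theorem exists_exponent {z₁ z₂ z₃ : α} (h1 : z₁ ∉ t) (h2 : z₂ ∉ t) (h3 : z₃ ∉ t)
    (h12 : ∀ x ∈ L.R, x • z₁ = z₁ → x • z₂ = z₂ → x = 1)
    (h13 : ∀ x ∈ L.R, x • z₁ = z₁ → x • z₃ = z₃ → x = 1)
    (h23 : ∀ x ∈ L.R, x • z₂ = z₂ → x • z₃ = z₃ → x = 1)
    {h : G} (hh : L.Preserves h) : ∃ m : ℕ, ∀ x ∈ L.R, h * x * h⁻¹ = x ^ m := by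
  have hE : ∀ z ∉ t, ∃ m : ℕ, ∀ x ∈ L.R, ((x ^ m)⁻¹ * (h * x * h⁻¹)) • z = z :=
    fun z hz => L.exponent hsmall hz hh.1 (hh.2 z hz)
  obtain ⟨m₁, e1⟩ := hE z₁ h1
  obtain ⟨m₂, e2⟩ := hE z₂ h2
  obtain ⟨m₃, e3⟩ := hE z₃ h3
  have hmem : ∀ m, ∀ x ∈ L.R, (x ^ m)⁻¹ * (h * x * h⁻¹) ∈ L.R := fun m x hx =>
    L.R.mul_mem (L.R.inv_mem (L.R.pow_mem hx m)) ((Subgroup.mem_normalizer_iff.1 hh.1 x).1 hx)
  -- if the exponent at `z` and the fixing of `z'` agree, the element is a power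
  have hfix : ∀ z ∉ t, ∀ u ∈ L.R, u • z = z → ∀ m : ℕ, ((u ^ m)⁻¹ * (h * u * h⁻¹)) • z = z := by
    intro z hz u hu huz m
    obtain ⟨n, en⟩ := hE z hz
    have hpow : ∀ j : ℕ, (u ^ j) • z = z := fun j => by
      induction j with
      | zero => simp
      | succ j ih => rw [pow_succ, mul_smul, huz, ih]
    have := en u hu
    rw [mul_smul, inv_smul_eq_iff, hpow] at this
    rw [mul_smul, this, inv_smul_eq_iff, hpow]
  have key : ∀ z z' : α, z ∉ t → (∀ x ∈ L.R, x • z = z → x • z' = z' → x = 1) →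
      ∀ m : ℕ, (∀ x ∈ L.R, ((x ^ m)⁻¹ * (h * x * h⁻¹)) • z' = z') →
      ∀ u ∈ L.R, u • z = z → h * u * h⁻¹ = u ^ m := by
    intro z z' hz hzz m em u hu huz
    have := hzz _ (hmem m u hu) (hfix z hz u hu huz m) (em u hu)
    exact (inv_mul_eq_one.1 this).symm
  by_cases hK1 : ∀ x ∈ L.R, x • z₁ = z₁ → x = 1
  · exact ⟨m₁, fun x hx => (inv_mul_eq_one.1 (hK1 _ (hmem _ x hx) (e1 x hx))).symm⟩
  by_cases hK2 : ∀ x ∈ L.R, x • z₂ = z₂ → x = 1
  · exact ⟨m₂, fun x hx => (inv_mul_eq_one.1 (hK2 _ (hmem _ x hx) (e2 x hx))).symm⟩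
  push Not at hK1 hK2
  obtain ⟨u, hu, huz, hune⟩ := hK1
  obtain ⟨v, hv, hvz, hvne⟩ := hK2
  have horder : ∀ w ∈ L.R, w ≠ 1 → ∀ i j : ℕ, w ^ i = w ^ j → ∀ x ∈ L.R, x ^ i = x ^ j := by
    intro w hw hw1 i j hij x hx
    have ho : orderOf w = r := orderOf_eq_prime (L.pow_eq_one hsmall hw) hw1
    rw [pow_eq_pow_iff_modEq, ho] at hij
    exact pow_eq_pow_iff_modEq.2 (hij.of_dvd (orderOf_dvd_of_pow_eq_one (L.pow_eq_one hsmall hx)))
  -- the three exponents agree
  have a23 : ∀ x ∈ L.R, x ^ m₂ = x ^ m₃ := horder u hu hune m₂ m₃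
    ((key z₁ z₂ h1 h12 m₂ e2 u hu huz).symm.trans (key z₁ z₃ h1 h13 m₃ e3 u hu huz))
  have a13 : ∀ x ∈ L.R, x ^ m₁ = x ^ m₃ := horder v hv hvne m₁ m₃
    ((key z₂ z₁ h2 (fun x hx a b => h12 x hx b a) m₁ e1 v hv hvz).symm.trans
      (key z₂ z₃ h2 h23 m₃ e3 v hv hvz))
  refine ⟨m₁, fun x hx => (inv_mul_eq_one.1 (h12 _ (hmem m₁ x hx) (e1 x hx) ?_)).symm⟩
  rw [a13 x hx, ← a23 x hx]
  exact e2 x hx

omit hsmall in
theorem Preserves.conj {h : G} (hh : L.Preserves h) {g : G}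
    (hg : g ∈ Subgroup.normalizer (L.R : Set G)) (hgt : ∀ z ∈ t, g • z ∈ t) :
    L.Preserves (g * h * g⁻¹) := by
  refine ⟨Subgroup.mul_mem _ (Subgroup.mul_mem _ hg hh.1) (Subgroup.inv_mem _ hg), fun z hz => ?_⟩
  have hz' : g⁻¹ • z ∉ t := fun h' => hz (by simpa using hgt _ h')
  obtain ⟨⟨x, hx⟩, hxz : x • g⁻¹ • z = h • g⁻¹ • z⟩ := hh.2 _ hz'
  refine ⟨⟨g * x * g⁻¹, (Subgroup.mem_normalizer_iff.1 hg x).1 hx⟩, ?_⟩
  show (g * x * g⁻¹) • z = (g * h * g⁻¹) • z
  rw [mul_smul, mul_smul, mul_smul, mul_smul, hxz]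

omit hsmall in
theorem Preserves.mul {g h : G} (hg : L.Preserves g) (hh : L.Preserves h)
    (hmem : ∀ z ∉ t, h • z ∉ t) : L.Preserves (g * h) := by
  refine ⟨Subgroup.mul_mem _ hg.1 hh.1, fun z hz => ?_⟩
  have h1 := hg.2 _ (hmem z hz)
  rwa [← mul_smul, orbit_eq_iff.2 (hh.2 z hz)] at h1

/-- A commutator with an orbit-preserving element centralizes, so fixes the orbits after `r` steps. -/
theorem commutator_pow_fix {z₁ z₂ z₃ : α} (h1 : z₁ ∉ t) (h2 : z₂ ∉ t) (h3 : z₃ ∉ t)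
    (h12 : ∀ x ∈ L.R, x • z₁ = z₁ → x • z₂ = z₂ → x = 1)
    (h13 : ∀ x ∈ L.R, x • z₁ = z₁ → x • z₃ = z₃ → x = 1)
    (h23 : ∀ x ∈ L.R, x • z₂ = z₂ → x • z₃ = z₃ → x = 1)
    {g h : G} (hh : L.Preserves h) (hg : g ∈ Subgroup.normalizer (L.R : Set G))
    (hgt : ∀ z ∈ t, g • z ∈ t) (hht : ∀ z ∈ t, h • z ∈ t) :
    ∀ z ∉ t, ((g * h * g⁻¹ * h⁻¹) ^ r) • z = z := by
  obtain ⟨m, hm⟩ := L.exists_exponent hsmall h1 h2 h3 h12 h13 h23 hh
  set w := g * h * g⁻¹ * h⁻¹ with hw
  have hinvR : ∀ {f : G}, f ∈ Subgroup.normalizer (L.R : Set G) → ∀ x ∈ L.R, f⁻¹ * x * f ∈ L.R := by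
    intro f hf x hx
    simpa using (Subgroup.mem_normalizer_iff.1 (Subgroup.inv_mem _ hf) x).1 hx
  have hcomm : ∀ x ∈ L.R, Commute w x := by
    intro x hx
    show w * x = x * w
    rw [← mul_inv_eq_iff_eq_mul]
    set y := h⁻¹ * x * h with hy
    have hyR : y ∈ L.R := hinvR hh.1 x hx
    calc w * x * w⁻¹ = g * (h * (g⁻¹ * y * g) * h⁻¹) * g⁻¹ := by rw [hw, hy]; group
      _ = g * (g⁻¹ * y * g) ^ m * g⁻¹ := by rw [hm _ (hinvR hg y hyR)]
      _ = y ^ m := by
          rw [← MulAut.conj_apply, map_pow, MulAut.conj_apply]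
          group
      _ = x := by rw [← hm y hyR, hy]; group
  have hstab : ∀ f : G, (∀ z ∈ t, f • z ∈ t) → ∀ z ∉ t, f • z ∉ t := by
    intro f hf z hz hfz
    have hgt' : t.image (f • ·) = t := Finset.eq_of_subset_of_card_le
      (Finset.image_subset_iff.2 hf) (by rw [Finset.card_image_of_injective _ (MulAction.injective f)])
    rw [← hgt', Finset.mem_image] at hfz
    obtain ⟨w', hw', he⟩ := hfz
    exact hz (MulAction.injective f he ▸ hw')
  intro z hz
  have hwP : L.Preserves w := by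
    have hinv : L.Preserves h⁻¹ := by
      refine ⟨Subgroup.inv_mem _ hh.1, fun u hu => ?_⟩
      have hu' : h⁻¹ • u ∉ t := fun hc => hu (by simpa using hht _ hc)
      have h' := hh.2 _ hu'
      rw [smul_inv_smul] at h'
      exact mem_orbit_symm.1 h'
    exact Preserves.mul L (Preserves.conj L hh hg hgt) hinv
      fun u hu hc => hu (by simpa using hht _ hc)
  obtain ⟨⟨x, hx⟩, hxz : x • z = w • z⟩ := hwP.2 z hz
  have hpow : ∀ j : ℕ, (w ^ j) • z = (x ^ j) • z := by
    intro j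
    induction j with
    | zero => simp
    | succ j ih =>
      rw [pow_succ', mul_smul, ih, ← mul_smul, (hcomm _ (L.R.pow_mem hx j)).eq, mul_smul, ← hxz,
        ← mul_smul, ← pow_succ]
  rw [hpow, L.pow_fix hsmall hz hx]

end Local

/-- An element supported in one orbit of length `r` is a cycle. -/
theorem alternating_le_of_small {r : ℕ} (hr : r.Prime) (hprim : IsPreprimitive G α)
    (hn : r + 3 ≤ Fintype.card α) {x : G} (hx : x ^ r = 1) (hx1 : x ≠ 1) (S : Set α) (hS : S.ncard ≤ r)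
    (hfix : ∀ z ∉ S, x • z = z) : alternatingGroup α ≤ G := by
  have hr2 := hr.two_le
  haveI := Fact.mk hr
  have ho : orderOf (x : Equiv.Perm α) = r := by
    rw [Subgroup.orderOf_coe]
    exact orderOf_eq_prime hx hx1
  have hsup : (x : Equiv.Perm α).support.card ≤ r := by
    refine le_trans ?_ hS
    rw [← Set.ncard_coe_finset]
    refine Set.ncard_le_ncard (fun z hz => ?_) (Set.toFinite _)
    by_contra h
    exact (Equiv.Perm.mem_support.1 hz) (hfix z h)
  have hcyc : (x : Equiv.Perm α).IsCycle :=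
    Equiv.Perm.isCycle_of_prime_order (ho ▸ hr) (by rw [ho]; omega)
  exact Cfsg.Agent.S0713.result G hprim hr (by omega) hn hcyc
    (by rw [← Equiv.Perm.IsCycle.orderOf hcyc, ho]) x.2

/-- Covering the complement by two or three orbits. -/
theorem Local.data {t : Finset α} {r : ℕ} [Fact r.Prime] (L : Local G t r)
    (hsmall : Fintype.card α - t.card < r ^ 2) (hprim : IsPreprimitive G α)
    (hA : ¬ alternatingGroup α ≤ G) (hn : r + 3 ≤ Fintype.card α)
    (m : ℕ) (hm : m = 2 ∨ m = 3) (hcard : Fintype.card α - t.card = m * r) :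
    ∃ z₁ z₂ z₃ : α, z₁ ∉ t ∧ z₂ ∉ t ∧ z₃ ∉ t ∧
      (∀ x ∈ L.R, x • z₁ = z₁ → x • z₂ = z₂ → x = 1) ∧
      (∀ x ∈ L.R, x • z₁ = z₁ → x • z₃ = z₃ → x = 1) ∧
      (∀ x ∈ L.R, x • z₂ = z₂ → x • z₃ = z₃ → x = 1) ∧
      (m = 2 → z₃ = z₂) ∧
      ∀ z ∉ t, z ∈ orbit L.R z₁ ∪ orbit L.R z₂ ∪ orbit L.R z₃ := by
  classical
  have hr : r.Prime := Fact.out
  set U : Set α := ((Finset.univ \ t : Finset α) : Set α) with hU
  have hUc : U.ncard = m * r := by
    rw [hU, Set.ncard_coe_finset, Finset.card_univ_sdiff, hcard]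
  have hUmem : ∀ z, z ∈ U ↔ z ∉ t := fun z => by simp [hU]
  have horb : ∀ z ∉ t, (orbit L.R z).ncard = r := fun z hz => by
    rw [← index_stabilizer, L.index_eq hsmall hz]
  have hdis : ∀ z w : α, w ∉ orbit L.R z → Disjoint (orbit L.R z) (orbit L.R w) := by
    intro z w hw
    rw [Set.disjoint_left]
    exact fun u h h' => hw (orbit_eq_iff.1 ((orbit_eq_iff.2 h').symm.trans (orbit_eq_iff.2 h)))
  obtain ⟨z₁, hz₁⟩ : U.Nonempty := Set.nonempty_of_ncard_ne_zero (by
    rw [hUc]; exact Nat.mul_ne_zero (by omega) hr.ne_zero)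
  rw [hUmem] at hz₁
  obtain ⟨z₂, hz₂, hz₂'⟩ : ∃ z ∈ U, z ∉ orbit L.R z₁ := by
    by_contra hcon
    push Not at hcon
    have h := Set.ncard_le_ncard hcon (Set.toFinite _)
    rw [hUc, horb z₁ hz₁] at h
    have := Nat.mul_le_mul_right r (show 2 ≤ m by omega)
    have := hr.two_le
    omega
  rw [hUmem] at hz₂
  -- two orbits
  have h12c : (orbit L.R z₁ ∪ orbit L.R z₂).ncard = 2 * r := by
    rw [Set.ncard_union_eq (hdis _ _ hz₂') (Set.toFinite _) (Set.toFinite _), horb _ hz₁, horb _ hz₂,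
      two_mul]
  have h12s : orbit L.R z₁ ∪ orbit L.R z₂ ⊆ U :=
    Set.union_subset (L.orbit_subset hz₁) (L.orbit_subset hz₂)
  -- an element fixing all orbits but one is trivial
  have hone : ∀ z ∉ t, ∀ x ∈ L.R, (∀ u ∉ t, u ∉ orbit L.R z → x • u = u) → x = 1 := by
    intro z hz x hx hfix
    by_contra hx1
    refine hA (alternating_le_of_small hr hprim hn (L.pow_eq_one hsmall hx) hx1 (orbit L.R z)
      (horb z hz).le fun u hu => ?_)
    by_cases hut : u ∈ t
    · exact L.fix x hx u hut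
    · exact hfix u hut hu
  have hfixorb : ∀ z ∉ t, ∀ x ∈ L.R, x • z = z → ∀ u ∈ orbit L.R z, x • u = u := by
    rintro z hz x hx hxz _ ⟨⟨w, hw⟩, rfl⟩
    exact L.fix_orbit hsmall hz hx hw hxz
  rcases hm with rfl | rfl
  · have hcov : U = orbit L.R z₁ ∪ orbit L.R z₂ :=
      (Set.eq_of_subset_of_ncard_le h12s (by rw [hUc, h12c]) (Set.toFinite _)).symm
    have hA' : ∀ x ∈ L.R, x • z₂ = z₂ → x = 1 := fun x hx h =>
      hone z₁ hz₁ x hx fun u hu hu' => hfixorb z₂ hz₂ x hx h u <| by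
        have := hcov ▸ (hUmem u).2 hu
        exact this.resolve_left hu'
    refine ⟨z₁, z₂, z₂, hz₁, hz₂, hz₂, fun x hx _ h => hA' x hx h, fun x hx _ h => hA' x hx h,
      fun x hx h _ => hA' x hx h, fun _ => rfl, fun z hz => ?_⟩
    exact Or.inl (hcov ▸ (hUmem z).2 hz)
  · obtain ⟨z₃, hz₃, hz₃'⟩ : ∃ z ∈ U, z ∉ orbit L.R z₁ ∪ orbit L.R z₂ := by
      by_contra hcon
      push Not at hcon
      have h := Set.ncard_le_ncard hcon (Set.toFinite _)
      rw [hUc, h12c] at h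
      have := hr.two_le
      omega
    rw [hUmem] at hz₃
    rw [Set.mem_union, not_or] at hz₃'
    have hcov : U = orbit L.R z₁ ∪ orbit L.R z₂ ∪ orbit L.R z₃ := by
      refine (Set.eq_of_subset_of_ncard_le (Set.union_subset h12s (L.orbit_subset hz₃)) ?_
        (Set.toFinite _)).symm
      rw [hUc, Set.ncard_union_eq (Set.disjoint_union_left.2 ⟨hdis _ _ hz₃'.1, hdis _ _ hz₃'.2⟩)
        (Set.toFinite _) (Set.toFinite _), h12c, horb _ hz₃]
      omega
    have hc : ∀ z ∉ t, z ∈ orbit L.R z₁ ∪ orbit L.R z₂ ∪ orbit L.R z₃ := fun z hz =>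
      hcov ▸ (hUmem z).2 hz
    refine ⟨z₁, z₂, z₃, hz₁, hz₂, hz₃, ?_, ?_, ?_, fun h => absurd h (by norm_num), hc⟩
    · intro x hx ha hb
      refine hone z₃ hz₃ x hx fun u hu hu' => ?_
      rcases hc u hu with (h | h) | h
      exacts [hfixorb z₁ hz₁ x hx ha u h, hfixorb z₂ hz₂ x hx hb u h, absurd h hu']
    · intro x hx ha hb
      refine hone z₂ hz₂ x hx fun u hu hu' => ?_
      rcases hc u hu with (h | h) | h
      exacts [hfixorb z₁ hz₁ x hx ha u h, absurd h hu', hfixorb z₃ hz₃ x hx hb u h]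
    · intro x hx ha hb
      refine hone z₁ hz₁ x hx fun u hu hu' => ?_
      rcases hc u hu with (h | h) | h
      exacts [absurd h hu', hfixorb z₂ hz₂ x hx ha u h, hfixorb z₃ hz₃ x hx hb u h]

/-- Powers of a normalizing element return to the orbit. -/
theorem Local.preserves_pow {t : Finset α} {r : ℕ} (L : Local G t r) {g : G}
    (hg : g ∈ Subgroup.normalizer (L.R : Set G)) (hgt : ∀ z ∈ t, g • z ∈ t) (S : Finset α)
    (hS : ∀ z ∉ t, ∃ c ∈ S, z ∈ orbit L.R c) {e : ℕ}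
    (he : ∀ j, 0 < j → j ≤ S.card → j ∣ e) : L.Preserves (g ^ e) := by
  classical
  refine ⟨Subgroup.pow_mem _ hg e, fun z hz => ?_⟩
  have hout : ∀ j : ℕ, (g ^ j) • z ∉ t := by
    intro j
    induction j with
    | zero => simpa using hz
    | succ j ih =>
      rw [pow_succ', mul_smul]
      have hgt' : t.image (g • ·) = t := Finset.eq_of_subset_of_card_le
        (Finset.image_subset_iff.2 hgt) (by rw [Finset.card_image_of_injective _ (MulAction.injective g)])
      intro hc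
      rw [← hgt', Finset.mem_image] at hc
      obtain ⟨w, hw, he⟩ := hc
      exact ih (MulAction.injective g he ▸ hw)
  choose c hcS hc using fun j => hS _ (hout j)
  obtain ⟨i, hi, j, hj, hne, hij⟩ := Finset.exists_ne_map_eq_of_card_lt_of_maps_to
    (s := Finset.range (S.card + 1)) (t := S) (by simp) (f := c) fun j _ => hcS j
  wlog hlt : i < j generalizing i j
  · exact this j hj i hi hne.symm hij.symm (by omega)
  rw [Finset.mem_range] at hj
  -- transport along powers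
  have htrans : ∀ {f : G}, f ∈ Subgroup.normalizer (L.R : Set G) → ∀ {u v : α},
      u ∈ orbit L.R v → f • u ∈ orbit L.R (f • v) := by
    rintro f hf _ v ⟨⟨x, hx⟩, rfl⟩
    refine ⟨⟨f * x * f⁻¹, (Subgroup.mem_normalizer_iff.1 hf x).1 hx⟩, ?_⟩
    show (f * x * f⁻¹) • f • v = f • x • v
    rw [mul_smul, mul_smul, inv_smul_smul]
  have hd : (g ^ (j - i)) • z ∈ orbit L.R z := by
    have h1 : (g ^ j) • z ∈ orbit L.R ((g ^ i) • z) := by
      rw [orbit_eq_iff.2 (hc i), hij]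
      exact hc j
    have h2 := htrans (Subgroup.inv_mem _ (Subgroup.pow_mem _ hg i)) h1
    rw [inv_smul_smul, ← mul_smul] at h2
    have h3 : g ^ j = g ^ i * g ^ (j - i) := by rw [← pow_add, Nat.add_sub_cancel' hlt.le]
    rwa [h3, inv_mul_cancel_left] at h2
  obtain ⟨q, hq⟩ := he (j - i) (by omega) (by omega)
  have hq' : ∀ q : ℕ, ((g ^ (j - i)) ^ q) • z ∈ orbit L.R z := by
    intro q
    induction q with
    | zero => simp
    | succ q ih =>
      have := htrans (Subgroup.pow_mem _ (Subgroup.pow_mem _ hg (j - i)) q) hd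
      rw [← mul_smul, ← pow_succ] at this
      rwa [orbit_eq_iff.2 ih] at this
  rw [hq, pow_mul]
  exact hq' q

theorem alternating_le_two (h5 : IsMultiplyPretransitive G α 5) {r : ℕ} (hr : r.Prime) (hr5 : 5 ≤ r)
    (hn : Fintype.card α = 2 * r + 3) : alternatingGroup α ≤ G := by
  classical
  haveI := Fact.mk hr
  by_contra hA
  haveI h2 : IsMultiplyPretransitive G α 2 :=
    MulAction.isMultiplyPretransitive_of_le (n := 5) (by norm_num) (by rw [Nat.card_eq_fintype_card]; omega)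
  have h3 : IsMultiplyPretransitive G α 3 :=
    MulAction.isMultiplyPretransitive_of_le (n := 5) (by norm_num) (by rw [Nat.card_eq_fintype_card]; omega)
  have h4 : IsMultiplyPretransitive G α 4 :=
    MulAction.isMultiplyPretransitive_of_le (n := 5) (by norm_num) (by rw [Nat.card_eq_fintype_card]; omega)
  have hprim : IsPreprimitive G α := MulAction.isPreprimitive_of_is_two_pretransitive h2
  obtain ⟨t, -, ht⟩ := Finset.exists_subset_card_eq (s := (Finset.univ : Finset α)) (n := 3)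
    (by rw [Finset.card_univ]; omega)
  obtain ⟨a, b, c, hab, hac, hbc, rfl⟩ := Finset.card_eq_three.1 ht
  have hsdiff : Fintype.card α - ({a, b, c} : Finset α).card = 2 * r := by rw [ht]; omega
  have htr : ∀ x y, x ∉ ({a, b, c} : Finset α) → y ∉ ({a, b, c} : Finset α) →
      ∃ g : G, (∀ z ∈ ({a, b, c} : Finset α), g • z = z) ∧ g • x = y := by
    intro x y hx hy
    simp only [Finset.mem_insert, Finset.mem_singleton, not_or] at hx hy
    obtain ⟨g, hg⟩ := exists_smul_tuple h4 ![a, b, c, x] ![a, b, c, y]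
      (injective₄ hab hac (Ne.symm hx.1) hbc (Ne.symm hx.2.1) (Ne.symm hx.2.2))
      (injective₄ hab hac (Ne.symm hy.1) hbc (Ne.symm hy.2.1) (Ne.symm hy.2.2))
    refine ⟨g, fun z hz => ?_, hg 3⟩
    simp only [Finset.mem_insert, Finset.mem_singleton] at hz
    rcases hz with rfl | rfl | rfl
    exacts [hg 0, hg 1, hg 2]
  obtain ⟨L⟩ := exists_local (r := r) htr (hsdiff ▸ dvd_mul_left r 2)
  have hsmall : Fintype.card α - ({a, b, c} : Finset α).card < r ^ 2 := by rw [hsdiff]; nlinarith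
  obtain ⟨z₁, z₂, z₃, hz₁, hz₂, hz₃, p12, p13, p23, hz32, hcov⟩ :=
    L.data hsmall hprim hA (by omega) 2 (Or.inl rfl) hsdiff
  have hmemt : ∀ z, z ∈ ({a, b, c} : Finset α) ↔ z = a ∨ z = b ∨ z = c := fun z => by simp
  obtain ⟨g₀, hg₀⟩ := exists_smul_tuple h3 ![a, b, c] ![b, a, c]
    (injective₃ hab hac hbc) (injective₃ hab.symm hbc hac)
  obtain ⟨τ₀, hτ₀⟩ := exists_smul_tuple h3 ![a, b, c] ![b, c, a]
    (injective₃ hab hac hbc) (injective₃ hbc hab.symm hac.symm)
  have g0a : g₀ • a = b := hg₀ 0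
  have g0b : g₀ • b = a := hg₀ 1
  have g0c : g₀ • c = c := hg₀ 2
  have t0a : τ₀ • a = b := hτ₀ 0
  have t0b : τ₀ • b = c := hτ₀ 1
  have t0c : τ₀ • c = a := hτ₀ 2
  obtain ⟨g, hgv, hgN⟩ := L.witt g₀ (fun z hz => by
    rw [hmemt] at hz ⊢; rcases hz with rfl | rfl | rfl <;> simp [g0a, g0b, g0c])
  obtain ⟨τ, hτv, hτN⟩ := L.witt τ₀ (fun z hz => by
    rw [hmemt] at hz ⊢; rcases hz with rfl | rfl | rfl <;> simp [t0a, t0b, t0c])
  have ga : g • a = b := (hgv a (by simp)).trans g0a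
  have gb : g • b = a := (hgv b (by simp)).trans g0b
  have gc : g • c = c := (hgv c (by simp)).trans g0c
  have ta : τ • a = b := (hτv a (by simp)).trans t0a
  have tb : τ • b = c := (hτv b (by simp)).trans t0b
  have tc : τ • c = a := (hτv c (by simp)).trans t0c
  have hP : L.Preserves (τ ^ 2) := L.preserves_pow hτN (fun z hz => by
      rw [hmemt] at hz ⊢; rcases hz with rfl | rfl | rfl <;> simp [ta, tb, tc]) {z₁, z₂}
    (fun z hz => by
      rcases hcov z hz with (h | h) | h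
      exacts [⟨z₁, by simp, h⟩, ⟨z₂, by simp, h⟩, ⟨z₂, by simp, hz32 rfl ▸ h⟩])
    (fun j hj hj2 => by
      have := hj2.trans Finset.card_le_two
      interval_cases j <;> norm_num)
  set h := τ ^ 2 with hh
  have ha : h • a = c := by rw [hh, pow_two, mul_smul, ta, tb]
  have hb : h • b = a := by rw [hh, pow_two, mul_smul, tb, tc]
  have hc : h • c = b := by rw [hh, pow_two, mul_smul, tc, ta]
  have hfix := Local.commutator_pow_fix L hsmall hz₁ hz₂ hz₃ p12 p13 p23 hP hgN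
    (fun z hz => by rw [hmemt] at hz ⊢; rcases hz with rfl | rfl | rfl <;> simp [ga, gb, gc])
    (fun z hz => by rw [hmemt] at hz ⊢; rcases hz with rfl | rfl | rfl <;> simp [ha, hb, hc])
  set w := g * h * g⁻¹ * h⁻¹ with hw
  have gi : g⁻¹ • a = b ∧ g⁻¹ • b = a ∧ g⁻¹ • c = c :=
    ⟨inv_smul_eq_iff.2 gb.symm, inv_smul_eq_iff.2 ga.symm, inv_smul_eq_iff.2 gc.symm⟩
  have hi : h⁻¹ • a = b ∧ h⁻¹ • b = c ∧ h⁻¹ • c = a :=
    ⟨inv_smul_eq_iff.2 hb.symm, inv_smul_eq_iff.2 hc.symm, inv_smul_eq_iff.2 ha.symm⟩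
  have wa : w • a = c := by rw [hw, mul_smul, mul_smul, mul_smul, hi.1, gi.2.1, ha, gc]
  have wb : w • b = a := by rw [hw, mul_smul, mul_smul, mul_smul, hi.2.1, gi.2.2, hc, gb]
  have wc : w • c = b := by rw [hw, mul_smul, mul_smul, mul_smul, hi.2.2, gi.1, hb, ga]
  -- the power is a three-cycle
  have h3fix : ∀ z ∈ ({a, b, c} : Finset α), (w ^ 3) • z = z := by
    intro z hz
    rw [pow_succ, pow_two, mul_smul, mul_smul]
    rw [hmemt] at hz
    rcases hz with rfl | rfl | rfl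
    · rw [wa, wc, wb]
    · rw [wb, wa, wc]
    · rw [wc, wb, wa]
  have hne : ∀ z ∈ ({a, b, c} : Finset α), (w ^ r) • z ≠ z := by
    intro z hz hcon
    have hg' : (w ^ Nat.gcd r 3) • z = z := by
      have hsub : w ^ Nat.gcd r 3 ∈ stabilizer G z :=
        pow_gcd_eq_one_aux (mem_stabilizer_iff.2 hcon) (mem_stabilizer_iff.2 (h3fix z hz))
      exact mem_stabilizer_iff.1 hsub
    rw [((Nat.coprime_primes hr Nat.prime_three).2 (by omega)).gcd_eq_one, pow_one] at hg'
    rw [hmemt] at hz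
    rcases hz with rfl | rfl | rfl
    · exact hac (hg'.symm.trans wa).symm.symm
    · exact hab (hg'.symm.trans wb).symm
    · exact hbc (hg'.symm.trans wc).symm
  refine hA (Equiv.Perm.alternatingGroup_le_of_isPreprimitive_of_isThreeCycle_mem hprim ?_ (w ^ r).2)
  rw [← card_support_eq_three_iff, ← ht]
  congr 1
  ext z
  rw [Equiv.Perm.mem_support]
  constructor
  · intro hz
    by_contra hzt
    exact hz (hfix z hzt)
  · exact hne z
where
  pow_gcd_eq_one_aux {K : Subgroup G} {w : G} {i j : ℕ} (hi : w ^ i ∈ K) (hj : w ^ j ∈ K) :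
      w ^ Nat.gcd i j ∈ K := by
    rw [← zpow_natCast, Nat.gcd_eq_gcd_ab, zpow_add, zpow_mul, zpow_mul, zpow_natCast, zpow_natCast]
    exact K.mul_mem (K.zpow_mem hi _) (K.zpow_mem hj _)

theorem alternating_le_three (h5 : IsMultiplyPretransitive G α 5) {r : ℕ} (hr : r.Prime) (hr5 : 5 ≤ r)
    (hn : Fintype.card α = 3 * r + 4) : alternatingGroup α ≤ G := by
  classical
  haveI := Fact.mk hr
  by_contra hA
  haveI h2 : IsMultiplyPretransitive G α 2 :=
    MulAction.isMultiplyPretransitive_of_le (n := 5) (by norm_num) (by rw [Nat.card_eq_fintype_card]; omega)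
  have h4 : IsMultiplyPretransitive G α 4 :=
    MulAction.isMultiplyPretransitive_of_le (n := 5) (by norm_num) (by rw [Nat.card_eq_fintype_card]; omega)
  have hprim : IsPreprimitive G α := MulAction.isPreprimitive_of_is_two_pretransitive h2
  obtain ⟨t, -, ht⟩ := Finset.exists_subset_card_eq (s := (Finset.univ : Finset α)) (n := 4)
    (by rw [Finset.card_univ]; omega)
  obtain ⟨a, t', ha', rfl, ht'⟩ := Finset.card_eq_succ.1 (show t.card = 3 + 1 from ht)
  obtain ⟨b, c, d, hbc, hbd, hcd, rfl⟩ := Finset.card_eq_three.1 ht'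
  simp only [Finset.mem_insert, Finset.mem_singleton, not_or] at ha'
  obtain ⟨hab, hac, had⟩ : a ≠ b ∧ a ≠ c ∧ a ≠ d := ha'
  have hsdiff : Fintype.card α - ({a, b, c, d} : Finset α).card = 3 * r := by rw [ht]; omega
  obtain ⟨x₀, hx₀⟩ : ∃ x, x ∉ ({a, b, c, d} : Finset α) := by
    by_contra h
    push Not at h
    have h' := congrArg Finset.card (Finset.eq_univ_iff_forall.2 h)
    rw [Finset.card_univ, ht] at h'
    omega
  have htr : ∀ x y, x ∉ ({a, b, c, d} : Finset α) → y ∉ ({a, b, c, d} : Finset α) →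
      ∃ g : G, (∀ z ∈ ({a, b, c, d} : Finset α), g • z = z) ∧ g • x = y := by
    intro x y hx hy
    simp only [Finset.mem_insert, Finset.mem_singleton, not_or] at hx hy
    obtain ⟨g, hg⟩ := exists_smul_tuple h5 ![a, b, c, d, x] ![a, b, c, d, y]
      (injective₅ hab hac had (Ne.symm hx.1) hbc hbd (Ne.symm hx.2.1) hcd (Ne.symm hx.2.2.1) (Ne.symm hx.2.2.2))
      (injective₅ hab hac had (Ne.symm hy.1) hbc hbd (Ne.symm hy.2.1) hcd (Ne.symm hy.2.2.1) (Ne.symm hy.2.2.2))
    refine ⟨g, fun z hz => ?_, hg 4⟩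
    simp only [Finset.mem_insert, Finset.mem_singleton] at hz
    rcases hz with rfl | rfl | rfl | rfl
    exacts [hg 0, hg 1, hg 2, hg 3]
  obtain ⟨L⟩ := exists_local (r := r) htr (hsdiff ▸ dvd_mul_left r 3)
  have hsmall : Fintype.card α - ({a, b, c, d} : Finset α).card < r ^ 2 := by rw [hsdiff]; nlinarith
  obtain ⟨z₁, z₂, z₃, hz₁, hz₂, hz₃, p12, p13, p23, -, hcov⟩ :=
    L.data hsmall hprim hA (by omega) 3 (Or.inr rfl) hsdiff
  have hmemt : ∀ z, z ∈ ({a, b, c, d} : Finset α) ↔ z = a ∨ z = b ∨ z = c ∨ z = d := fun z => by simp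
  obtain ⟨g₀, hg₀⟩ := exists_smul_tuple h4 ![a, b, c, d] ![a, c, d, b]
    (injective₄ hab hac had hbc hbd hcd) (injective₄ hac had hab hcd hbc.symm hbd.symm)
  obtain ⟨τ₀, hτ₀⟩ := exists_smul_tuple h4 ![a, b, c, d] ![b, c, d, a]
    (injective₄ hab hac had hbc hbd hcd) (injective₄ hbc hbd hab.symm hcd hac.symm had.symm)
  have g0a : g₀ • a = a := hg₀ 0
  have g0b : g₀ • b = c := hg₀ 1
  have g0c : g₀ • c = d := hg₀ 2
  have g0d : g₀ • d = b := hg₀ 3
  have t0a : τ₀ • a = b := hτ₀ 0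
  have t0b : τ₀ • b = c := hτ₀ 1
  have t0c : τ₀ • c = d := hτ₀ 2
  have t0d : τ₀ • d = a := hτ₀ 3
  obtain ⟨g, hgv, hgN⟩ := L.witt g₀ (fun z hz => by
    rw [hmemt] at hz ⊢; rcases hz with rfl | rfl | rfl | rfl <;> simp [g0a, g0b, g0c, g0d])
  obtain ⟨τ, hτv, hτN⟩ := L.witt τ₀ (fun z hz => by
    rw [hmemt] at hz ⊢; rcases hz with rfl | rfl | rfl | rfl <;> simp [t0a, t0b, t0c, t0d])
  have ga : g • a = a := (hgv a (by simp)).trans g0a
  have gb : g • b = c := (hgv b (by simp)).trans g0b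
  have gc : g • c = d := (hgv c (by simp)).trans g0c
  have gd : g • d = b := (hgv d (by simp)).trans g0d
  have ta : τ • a = b := (hτv a (by simp)).trans t0a
  have tb : τ • b = c := (hτv b (by simp)).trans t0b
  have tc : τ • c = d := (hτv c (by simp)).trans t0c
  have td : τ • d = a := (hτv d (by simp)).trans t0d
  have hP : L.Preserves (τ ^ 6) := L.preserves_pow hτN (fun z hz => by
      rw [hmemt] at hz ⊢; rcases hz with rfl | rfl | rfl | rfl <;> simp [ta, tb, tc, td]) {z₁, z₂, z₃}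
    (fun z hz => by
      rcases hcov z hz with (h | h) | h
      exacts [⟨z₁, by simp, h⟩, ⟨z₂, by simp, h⟩, ⟨z₃, by simp, h⟩])
    (fun j hj hj2 => by
      have := hj2.trans Finset.card_le_three
      interval_cases j <;> norm_num)
  set h := τ ^ 6 with hh
  have ha : h • a = c := by simp only [hh, pow_succ, pow_zero, one_mul, mul_smul, ta, tb, tc, td]
  have hb : h • b = d := by simp only [hh, pow_succ, pow_zero, one_mul, mul_smul, ta, tb, tc, td]
  have hc : h • c = a := by simp only [hh, pow_succ, pow_zero, one_mul, mul_smul, ta, tb, tc, td]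
  have hd : h • d = b := by simp only [hh, pow_succ, pow_zero, one_mul, mul_smul, ta, tb, tc, td]
  have hfix := Local.commutator_pow_fix L hsmall hz₁ hz₂ hz₃ p12 p13 p23 hP hgN
    (fun z hz => by rw [hmemt] at hz ⊢; rcases hz with rfl | rfl | rfl | rfl <;> simp [ga, gb, gc, gd])
    (fun z hz => by rw [hmemt] at hz ⊢; rcases hz with rfl | rfl | rfl | rfl <;> simp [ha, hb, hc, hd])
  set w := g * h * g⁻¹ * h⁻¹ with hw
  have gi : g⁻¹ • a = a ∧ g⁻¹ • c = b ∧ g⁻¹ • d = c ∧ g⁻¹ • b = d :=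
    ⟨inv_smul_eq_iff.2 ga.symm, inv_smul_eq_iff.2 gb.symm, inv_smul_eq_iff.2 gc.symm, inv_smul_eq_iff.2 gd.symm⟩
  have hi : h⁻¹ • c = a ∧ h⁻¹ • d = b ∧ h⁻¹ • a = c ∧ h⁻¹ • b = d :=
    ⟨inv_smul_eq_iff.2 ha.symm, inv_smul_eq_iff.2 hb.symm, inv_smul_eq_iff.2 hc.symm, inv_smul_eq_iff.2 hd.symm⟩
  have wa : w • a = b := by rw [hw, mul_smul, mul_smul, mul_smul, hi.2.2.1, gi.2.1, hb, gd]
  have wb : w • b = a := by rw [hw, mul_smul, mul_smul, mul_smul, hi.2.2.2, gi.2.2.1, hc, ga]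
  have wc : w • c = d := by rw [hw, mul_smul, mul_smul, mul_smul, hi.1, gi.1, ha, gc]
  have wd : w • d = c := by rw [hw, mul_smul, mul_smul, mul_smul, hi.2.1, gi.2.2.2, hd, gb]
  -- its power is the double transposition
  obtain ⟨k, hk⟩ := (hr.odd_of_ne_two (by omega) : Odd r)
  have hpow : ∀ u v : α, w • u = v → w • v = u → (w ^ r) • u = v := by
    intro u v huv hvu
    have : ∀ i : ℕ, ((w * w) ^ i) • u = u := fun i => by
      induction i with
      | zero => simp
      | succ i ih => rw [pow_succ, mul_smul, mul_smul, huv, hvu, ih]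
    rw [hk, pow_succ', mul_smul, pow_mul, pow_two, this, huv]
  have hu : ((w ^ r : G) : Equiv.Perm α) = Equiv.swap a b * Equiv.swap c d := by
    ext z
    show (w ^ r) • z = _
    rw [Equiv.Perm.mul_apply]
    by_cases hza : z = a
    · subst hza
      rw [hpow _ _ wa wb, Equiv.swap_apply_of_ne_of_ne hac had, Equiv.swap_apply_left]
    by_cases hzb : z = b
    · subst hzb
      rw [hpow _ _ wb wa, Equiv.swap_apply_of_ne_of_ne hbc hbd, Equiv.swap_apply_right]
    by_cases hzc : z = c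
    · subst hzc
      rw [hpow _ _ wc wd, Equiv.swap_apply_left, Equiv.swap_apply_of_ne_of_ne had.symm hbd.symm]
    by_cases hzd : z = d
    · subst hzd
      rw [hpow _ _ wd wc, Equiv.swap_apply_right, Equiv.swap_apply_of_ne_of_ne hac.symm hbc.symm]
    rw [hfix z (by simp [hza, hzb, hzc, hzd]), Equiv.swap_apply_of_ne_of_ne hzc hzd,
      Equiv.swap_apply_of_ne_of_ne hza hzb]
  -- two of them give a three-cycle
  simp only [Finset.mem_insert, Finset.mem_singleton, not_or] at hx₀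
  obtain ⟨e, he⟩ := exists_smul_tuple h4 ![a, b, c, d] ![a, b, c, x₀]
    (injective₄ hab hac had hbc hbd hcd)
    (injective₄ hab hac (Ne.symm hx₀.1) hbc (Ne.symm hx₀.2.1) (Ne.symm hx₀.2.2.1))
  have ea : (e : Equiv.Perm α) a = a := he 0
  have eb : (e : Equiv.Perm α) b = b := he 1
  have ec : (e : Equiv.Perm α) c = c := he 2
  have ed : (e : Equiv.Perm α) d = x₀ := he 3
  have h3 : (w ^ r * (e * w ^ r * e⁻¹) : G).1 = Equiv.swap c d * Equiv.swap c x₀ := by
    have hcj : ∀ u v : α, (e : Equiv.Perm α) * Equiv.swap u v * (e : Equiv.Perm α)⁻¹ =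
        Equiv.swap ((e : Equiv.Perm α) u) ((e : Equiv.Perm α) v) := fun u v =>
      (Equiv.swap_apply_apply _ _ _).symm
    have hcomm : Equiv.swap c d * Equiv.swap a b = Equiv.swap a b * Equiv.swap c d :=
      (Equiv.Perm.Disjoint.commute (by
        intro z
        by_cases hz : z = c ∨ z = d
        · right
          rcases hz with rfl | rfl
          exacts [Equiv.swap_apply_of_ne_of_ne hac.symm hbc.symm,
            Equiv.swap_apply_of_ne_of_ne had.symm hbd.symm]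
        · left
          rw [not_or] at hz
          exact Equiv.swap_apply_of_ne_of_ne hz.1 hz.2)).eq
    have hconj : (e : Equiv.Perm α) * (Equiv.swap a b * Equiv.swap c d) * (e : Equiv.Perm α)⁻¹ =
        Equiv.swap a b * Equiv.swap c x₀ := by
      calc _ = ((e : Equiv.Perm α) * Equiv.swap a b * (e : Equiv.Perm α)⁻¹) *
            ((e : Equiv.Perm α) * Equiv.swap c d * (e : Equiv.Perm α)⁻¹) := by group
        _ = _ := by rw [hcj, hcj, ea, eb, ec, ed]
    simp only [Subgroup.coe_mul, Subgroup.coe_inv, hu, hconj]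
    rw [← hcomm]
    simp [mul_assoc]
  refine hA (Equiv.Perm.alternatingGroup_le_of_isPreprimitive_of_isThreeCycle_mem hprim ?_
    (w ^ r * (e * w ^ r * e⁻¹) : G).2)
  rw [h3]
  exact Equiv.Perm.isThreeCycle_swap_mul_swap_same hcd (Ne.symm hx₀.2.2.1) (Ne.symm hx₀.2.2.2)

end Cfsg.Agent.Perm.PrimeTwins
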