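import Cfsg.Agent.Lib.Perm.HalfNormalizer.Blocks
import Cfsg.Agent.Lib.Perm.Basic

/-!
A non-solvable group of prime degree `p > 7` with a half Sylow normalizer is triply transitive when
`p - 2` is prime: two orbits of a two-point stabilizer would have coprime lengths, and coprime
lengths give blocks of the point stabilizer.
-/

set_option autoImplicit false

namespace Cfsg.Agent.Perm.HalfNormalizer.Coord

open Finset

variable {p : ℕ} [hp : Fact p.Prime] {G : Type*} [Group G] [Finite G] {Ω : Type*} [MulAction G Ω]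
  [Fintype Ω] (C : Coord p G Ω)

include C

set_option linter.unusedSectionVars false in
/-- Two classes of triples of coprime lengths give blocks. -/
theorem no_product (h7 : 7 < p) (P Q : Ω → Ω → Ω → Prop)
    (hPd : ∀ u v w, P u v w → v ≠ u ∧ w ≠ u ∧ w ≠ v)
    (hQd : ∀ u v w, Q u v w → v ≠ u ∧ w ≠ u ∧ w ≠ v)
    (hQ : ∀ (g : G) u v w, Q u v w → Q (g • u) (g • v) (g • w))
    {a b c d : Ω} (hab : a ≠ b) (hc : P a b c) (hd : Q a b d)
    (hmix : ∀ d', Q a b d' → Q a c d')
    (hcnt : ∀ u v u' v', u ≠ v → u' ≠ v' →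
      Nat.card {w // Q u v w} = Nat.card {w // Q u' v' w}) : False := by
  classical
  have hQ' : ∀ (g : G) u v w, Q (g • u) (g • v) (g • w) ↔ Q u v w := fun g u v w =>
    ⟨fun h => by simpa using hQ g⁻¹ _ _ _ h, hQ g u v w⟩
  obtain ⟨hba, hca, hcb⟩ := hPd a b c hc
  obtain ⟨-, hda, hdb⟩ := hQd a b d hd
  -- the two sets coincide
  let D : Ω → Ω → Finset Ω := fun u v => univ.filter fun w => Q u v w
  have hD : ∀ u v w, w ∈ D u v ↔ Q u v w := fun u v w => by simp [D]
  have hDc : D a b = D a c := by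
    refine Finset.eq_of_subset_of_card_le (fun w hw => (hD _ _ _).2 (hmix w ((hD _ _ _).1 hw))) ?_
    have e : ∀ u v, (D u v).card = Nat.card {w // Q u v w} := fun u v => by
      rw [Nat.card_eq_fintype_card, Fintype.card_subtype]
    rw [e, e, hcnt a c a b hca.symm hab]
  refine C.no_blocks h7 (fun u v w => v ≠ u ∧ w ≠ u ∧ ∀ z, Q u v z ↔ Q u w z) ?_
    (fun u v h => ⟨h, h, fun _ => Iff.rfl⟩) (fun u v w h => ⟨h.2.1, h.1, fun z => (h.2.2 z).symm⟩)
    (fun u v w x h h' => ⟨h.1, h'.2.1, fun z => (h.2.2 z).trans (h'.2.2 z)⟩)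
    (fun u v w h => ⟨h.1, h.2.1⟩) ?_ ?_
  · rintro g u v w ⟨h1, h2, h3⟩
    refine ⟨fun h => h1 (MulAction.injective g h), fun h => h2 (MulAction.injective g h), fun z => ?_⟩
    rw [← smul_inv_smul g z, hQ', hQ']
    exact h3 _
  · refine ⟨a, b, c, ⟨hba, hca, fun z => ?_⟩, hcb.symm⟩
    rw [← hD, ← hD, hDc]
  · exact ⟨a, b, d, hba, hda, fun h => (hQd a d d ((h.2.2 d).1 hd)).2.2 rfl⟩

theorem three_transitive (h7 : 7 < p) (hq : (p - 2).Prime) :
    MulAction.IsMultiplyPretransitive G Ω 3 := by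
  classical
  have hΩ : Fintype.card Ω = p := by rw [← Fintype.card_congr C.e, ZMod.card]
  apply Cfsg.Agent.Perm.Basic.isMultiplyPretransitive_of_fixing_pred (by omega)
  intro t ht x y hx hy
  obtain ⟨a, b, hab, rfl⟩ := Finset.card_eq_two.1 (by omega : t.card = 2)
  simp only [mem_insert, mem_singleton, not_or] at hx hy
  by_contra hcon
  have hne : ∀ g : G, g • a = a → g • b = b → g • x ≠ y := by
    intro g ga gb gxy
    exact hcon ⟨g, by simp [ga, gb], gxy⟩
  -- the two classes of triples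
  let T : Ω → Ω → Ω → Ω → Prop := fun c u v w => ∃ g : G, g • a = u ∧ g • b = v ∧ g • c = w
  have hT : ∀ c (g : G) u v w, T c u v w → T c (g • u) (g • v) (g • w) := by
    rintro c g u v w ⟨k, h1, h2, h3⟩
    exact ⟨g * k, by rw [mul_smul, h1], by rw [mul_smul, h2], by rw [mul_smul, h3]⟩
  have hTd : ∀ c, c ≠ a → c ≠ b → ∀ u v w, T c u v w → v ≠ u ∧ w ≠ u ∧ w ≠ v := by
    rintro c hca hcb u v w ⟨k, rfl, rfl, rfl⟩
    exact ⟨fun h => hab (MulAction.injective k h).symm, fun h => hca (MulAction.injective k h),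
      fun h => hcb (MulAction.injective k h)⟩
  have hexcl : ∀ u v w, T x u v w → T y u v w → False := by
    rintro u v w ⟨k, k1, k2, k3⟩ ⟨l, l1, l2, l3⟩
    refine hne (l⁻¹ * k) ?_ ?_ ?_
    · rw [mul_smul, k1, ← l1, inv_smul_smul]
    · rw [mul_smul, k2, ← l2, inv_smul_smul]
    · rw [mul_smul, k3, ← l3, inv_smul_smul]
  have hcover : ∀ u v w, v ≠ u → w ≠ u → w ≠ v → T x u v w ∨ T y u v w := by
    intro u v w hvu hwu hwv
    obtain ⟨g, g1, g2⟩ := C.two a b u v hab hvu.symm
    rcases C.at_most_two hab x y (g⁻¹ • w) ⟨hx.1, hx.2⟩ ⟨hy.1, hy.2⟩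
      ⟨fun h => hwu (by rw [← g1, ← h, smul_inv_smul]),
        fun h => hwv (by rw [← g2, ← h, smul_inv_smul])⟩ with
      ⟨k, ka, kb, kc⟩ | ⟨k, ka, kb, kc⟩ | ⟨k, ka, kb, kc⟩
    · exact absurd kc (hne k ka kb)
    · exact Or.inl ⟨g * k, by rw [mul_smul, ka, g1], by rw [mul_smul, kb, g2],
        by rw [mul_smul, kc, smul_inv_smul]⟩
    · exact Or.inr ⟨g * k, by rw [mul_smul, ka, g1], by rw [mul_smul, kb, g2],
        by rw [mul_smul, kc, smul_inv_smul]⟩
  have hsize : ∀ c u v u' v', u ≠ v → u' ≠ v' →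
      Nat.card {w // T c u v w} = Nat.card {w // T c u' v' w} := by
    intro c u v u' v' h h'
    obtain ⟨g, rfl, rfl⟩ := C.two u v u' v' h h'
    refine Nat.card_congr (Equiv.subtypeEquiv (MulAction.toPerm g) fun w => ?_)
    exact ⟨hT c g u v w, fun hh => by simpa using hT c g⁻¹ _ _ _ hh⟩
  -- the numbers
  set n := fun c => Nat.card {w // T c a b w} with hn
  have hsum : n x + n y = p - 2 := by
    have hh : n x + n y = Nat.card {w // w ≠ a ∧ w ≠ b} := by
      rw [hn]
      simp only [Nat.card_eq_fintype_card, Fintype.card_subtype]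
      rw [← Finset.card_union_of_disjoint (Finset.disjoint_filter.2 fun w _ h h' => hexcl a b w h h')]
      congr 1
      ext w
      simp only [mem_union, mem_filter, mem_univ, true_and]
      constructor
      · rintro (h | h)
        · exact ⟨(hTd x hx.1 hx.2 a b w h).2.1, (hTd x hx.1 hx.2 a b w h).2.2⟩
        · exact ⟨(hTd y hy.1 hy.2 a b w h).2.1, (hTd y hy.1 hy.2 a b w h).2.2⟩
      · exact fun h => hcover a b w hab.symm h.1 h.2
    rw [hh, Nat.card_eq_fintype_card, Fintype.card_subtype,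
      show (univ.filter fun w : Ω => w ≠ a ∧ w ≠ b) = univ \ {a, b} by ext; simp,
      Finset.card_univ_sdiff, hΩ, Finset.card_pair hab]
  have hpos : ∀ c, 0 < n c := fun c =>
    Nat.card_pos_iff.2 ⟨⟨⟨c, 1, one_smul _ _, one_smul _ _, one_smul _ _⟩⟩, inferInstance⟩
  have hqodd : (p - 2) % 2 = 1 := by
    rcases hq.eq_two_or_odd with h | h <;> omega
  -- both classes are symmetric in the last two points
  have hswap : ∀ u v w, T x u v w → T x u w v := by
    rintro u v w h
    obtain ⟨hvu, hwu, hwv⟩ := hTd x hx.1 hx.2 u v w h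
    refine (hcover u w v hwu hvu hwv.symm).resolve_right fun hy' => ?_
    -- a mixed pair makes the two classes equally large
    obtain ⟨g, rfl, rfl, rfl⟩ := h
    have hxy : ∀ w', T x a b w' → T y a w' b := by
      rintro w' ⟨k, k1, k2, rfl⟩
      have := hT y (k * g⁻¹) _ _ _ hy'
      simpa [mul_smul, k1, k2] using this
    obtain ⟨l, l1, l2, l3⟩ := hxy x ⟨1, one_smul _ _, one_smul _ _, one_smul _ _⟩
    have hyx : ∀ u v w, T y u v w → T x u w v := by
      rintro u v w ⟨k, rfl, rfl, rfl⟩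
      refine ⟨k * l⁻¹, ?_, ?_, ?_⟩
      · rw [mul_smul, inv_smul_eq_iff.2 l1.symm]
      · rw [mul_smul, inv_smul_eq_iff.2 l3.symm]
      · rw [mul_smul, inv_smul_eq_iff.2 l2.symm]
    have hxy' : ∀ u v w, T x u v w → T y u w v := by
      rintro u v w ⟨k, rfl, rfl, rfl⟩
      have := hT y k _ _ _ (hxy x ⟨1, one_smul _ _, one_smul _ _, one_smul _ _⟩)
      exact this
    let X := fun c => {vw : Ω × Ω // T c a vw.1 vw.2}
    have hX : Nat.card (X x) = Nat.card (X y) := Nat.card_congr
      { toFun := fun s => ⟨(s.1.2, s.1.1), hxy' _ _ _ s.2⟩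
        invFun := fun s => ⟨(s.1.2, s.1.1), hyx _ _ _ s.2⟩
        left_inv := fun s => rfl
        right_inv := fun s => rfl }
    have hXc : ∀ c, c ≠ a → c ≠ b → Nat.card (X c) = (p - 1) * n c := by
      intro c hca hcb
      simp only [X, Nat.card_eq_fintype_card, Fintype.card_subtype]
      rw [Finset.card_filter, Fintype.sum_prod_type]
      simp only [← Finset.card_filter]
      rw [← Finset.sum_erase (s := univ) (a := a) (f := fun v => (univ.filter fun w => T c a v w).card)]
      · rw [Finset.sum_congr rfl fun v hv => (show (univ.filter fun w => T c a v w).card = n c by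
          rw [hn]
          simp only
          rw [← hsize c a v a b (Finset.ne_of_mem_erase hv).symm hab, Nat.card_eq_fintype_card,
            Fintype.card_subtype]), Finset.sum_const, smul_eq_mul, Finset.card_erase_of_mem (mem_univ _),
          Finset.card_univ, hΩ]
      · rw [Finset.card_eq_zero, Finset.filter_eq_empty_iff]
        exact fun w _ h => (hTd c hca hcb a a w h).1 rfl
    rw [hXc x hx.1 hx.2, hXc y hy.1 hy.2] at hX
    have := Nat.eq_of_mul_eq_mul_left (by omega) hX
    omega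
  -- the stabilizer of the pair is transitive on the product
  let K := MulAction.stabilizer G a ⊓ MulAction.stabilizer G b
  have horb : ∀ c, MulAction.orbit K c = {w | T c a b w} := by
    intro c
    ext w
    constructor
    · rintro ⟨⟨g, ga, gb⟩, rfl⟩
      exact ⟨g, ga, gb, rfl⟩
    · rintro ⟨g, ga, gb, gc⟩
      exact ⟨⟨g, ga, gb⟩, gc⟩
  have hidx : ∀ c, (MulAction.stabilizer K c).index = n c := by
    intro c
    rw [MulAction.index_stabilizer, horb, hn, ← Nat.card_coe_set_eq]
    rfl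
  have hprod : ∀ c' d', T x a b c' → T y a b d' → ∃ g : K, g • x = c' ∧ g • y = d' := by
    intro c' d' hc' hd'
    have hsub : MulAction.orbit K (x, y) ⊆ {w | T x a b w} ×ˢ {w | T y a b w} := by
      rintro _ ⟨g, rfl⟩
      exact ⟨(horb x).subset ⟨g, rfl⟩, (horb y).subset ⟨g, rfl⟩⟩
    have hcop : Nat.Coprime (n x) (n y) := by
      have h1 : Nat.Coprime (n x) (n x + n y) := by
        rw [hsum]
        exact (hq.coprime_iff_not_dvd.2 (Nat.not_dvd_of_pos_of_lt (hpos x)
          (by have := hpos y; omega))).symm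
      rwa [Nat.coprime_self_add_right] at h1
    have hle : ∀ z ∈ ({x, y} : Finset Ω), MulAction.stabilizer K (x, y) ≤ MulAction.stabilizer K z := by
      intro z hz g hg
      have h := Prod.ext_iff.1 (MulAction.mem_stabilizer_iff.1 hg)
      simp only [mem_insert, mem_singleton] at hz
      rcases hz with rfl | rfl
      · exact h.1
      · exact h.2
    have hdvd : n x * n y ∣ (MulAction.stabilizer K (x, y)).index :=
      hcop.mul_dvd_of_dvd_of_dvd (hidx x ▸ Subgroup.index_dvd_of_le (hle x (by simp)))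
        (hidx y ▸ Subgroup.index_dvd_of_le (hle y (by simp)))
    have heq : MulAction.orbit K (x, y) = {w | T x a b w} ×ˢ {w | T y a b w} := by
      refine Set.eq_of_subset_of_ncard_le hsub ?_ (Set.toFinite _)
      rw [Set.ncard_prod, ← MulAction.index_stabilizer, ← Nat.card_coe_set_eq, ← Nat.card_coe_set_eq]
      exact Nat.le_of_dvd (Nat.pos_of_ne_zero Subgroup.index_ne_zero_of_finite) hdvd
    obtain ⟨g, hg⟩ : (c', d') ∈ MulAction.orbit K (x, y) := heq ▸ ⟨hc', hd'⟩
    exact ⟨g, (Prod.ext_iff.1 hg).1, (Prod.ext_iff.1 hg).2⟩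
  -- the colour of a mixed pair
  have hxx : T x a b x := ⟨1, one_smul _ _, one_smul _ _, one_smul _ _⟩
  have hyy : T y a b y := ⟨1, one_smul _ _, one_smul _ _, one_smul _ _⟩
  have hswapy : ∀ u v w, T y u v w → T y u w v := by
    intro u v w h
    obtain ⟨hvu, hwu, hwv⟩ := hTd y hy.1 hy.2 u v w h
    exact (hcover u w v hwu hvu hwv.symm).resolve_left fun h' => hexcl u v w (hswap u w v h') h
  rcases hcover a x y hx.1 hy.1 (fun h => hne 1 (one_smul _ _) (one_smul _ _) (by rw [one_smul, h]))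
    with hk | hk
  · refine C.no_product h7 (T y) (T x) (hTd y hy.1 hy.2) (hTd x hx.1 hx.2) (hT x) hab hyy hxx
      (fun c' hc' => ?_) (hsize x)
    obtain ⟨g, g1, g2⟩ := hprod c' y hc' hyy
    have := hT x (g : G) _ _ _ (hswap a x y hk)
    rwa [show (g : G) • a = a from g.2.1, show (g : G) • y = y from g2,
      show (g : G) • x = c' from g1] at this
  · refine C.no_product h7 (T x) (T y) (hTd x hx.1 hx.2) (hTd y hy.1 hy.2) (hT y) hab hxx hyy
      (fun d' hd' => ?_) (hsize y)
    obtain ⟨g, g1, g2⟩ := hprod x d' hxx hd'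
    have := hT y (g : G) _ _ _ hk
    rwa [show (g : G) • a = a from g.2.1, show (g : G) • x = x from g1,
      show (g : G) • y = d' from g2] at this

end Cfsg.Agent.Perm.HalfNormalizer.Coord
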